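import Groth.Prelude.Def_ExtPow2
import Groth.Agent.EGA43.QcohFP
import Groth.Agent.DR15.ExtBaseChange
import Groth.Agent.Coherent.QcohLocal
import Groth.Agent.Coherent.FiniteType
import Mathlib.LinearAlgebra.ExteriorPower.Basis

/-!
# Exterior powers of quasi-coherent and coherent modules
-/

set_option autoImplicit false
set_option linter.style.haveILetI false
set_option backward.isDefEq.respectTransparency.types false
set_option maxHeartbeats 1000000

universe u

open CategoryTheory AlgebraicGeometry Opposite TopologicalSpace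
open Groth.Agent.Coherent

namespace Groth.Agent.Hyper5

variable {X : Scheme.{u}} {p : ℕ} {E L : X.Modules}

/-- An exterior power of a quasi-coherent module is quasi-coherent. -/
theorem isQCoh_of_isExtPow [Coh.IsQCoh E] (hL : ExtPow.IsExtPow p E L) : Coh.IsQCoh L := by
  obtain ⟨φ, hφ⟩ := hL
  refine (isQCoh_iff_localizesOn L).2 fun U hU => ?_
  suffices key : ∀ f : Γ(X, U),
      (∀ s : Γ(L, X.basicOpen f), ∃ (n : ℕ) (t : Γ(L, U)), resM L (X.basicOpen_le f) t =
        X.presheaf.map (homOfLE (X.basicOpen_le f)).op (f ^ n) • s) ∧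
      ∀ t : Γ(L, U), resM L (X.basicOpen_le f) t = 0 → ∃ n : ℕ, f ^ n • t = 0 from
    ⟨fun f => (key f).1, fun f => (key f).2⟩
  intro f
  let V := X.basicOpen f
  letI := (X.presheaf.map (homOfLE (X.basicOpen_le f)).op).hom.toAlgebra
  letI : Module Γ(X, U) (E.val.obj (op V)) :=
    Module.compHom _ (X.presheaf.map (homOfLE (X.basicOpen_le f)).op).hom
  haveI : IsScalarTower Γ(X, U) Γ(X, V) (E.val.obj (op V)) := IsScalarTower.of_algebraMap_smul fun _ _ => rfl
  haveI : IsLocalization.Away f Γ(X, V) := hU.isLocalization_basicOpen f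
  let rE : E.val.obj (op U) →ₗ[Γ(X, U)] E.val.obj (op V) :=
    { toFun := fun m => resM E (X.basicOpen_le f) m
      map_add' := fun a b => map_add _ a b
      map_smul' := fun r m => resM_smul E _ r m }
  haveI : IsLocalizedModule.Away f rE := EGA43.QcohFP.isLocalizedModule_res E hU f rE fun _ => rfl
  have hbc : IsBaseChange Γ(X, V) rE := IsLocalizedModule.isBaseChange (Submonoid.powers f) _ _
  let rA : ↥(⋀[Γ(X, U)]^p (E.val.obj (op U))) →ₗ[Γ(X, U)] ↥(⋀[Γ(X, V)]^p (E.val.obj (op V))) :=
    exteriorPower.alternatingMapLinearEquiv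
      { toMultilinearMap := ((exteriorPower.ιMulti Γ(X, V) p
            (M := E.val.obj (op V))).toMultilinearMap.restrictScalars Γ(X, U)).compLinearMap fun _ => rE
        map_eq_zero_of_eq' := fun v a b hab hne =>
          (exteriorPower.ιMulti Γ(X, V) p).map_eq_zero_of_eq _ (congrArg rE hab) hne }
  have hrA : ∀ v, rA (exteriorPower.ιMulti _ p v) = exteriorPower.ιMulti _ p (rE ∘ v) := fun v =>
    exteriorPower.alternatingMapLinearEquiv_apply_ιMulti _ _
  haveI : IsLocalizedModule.Away f rA :=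
    (isLocalizedModule_iff_isBaseChange (Submonoid.powers f) Γ(X, V) rA).2
      (DR15.exteriorPower_isBaseChange hbc p rA hrA)
  letI : Module Γ(X, U) (L.val.obj (op V)) :=
    Module.compHom _ (X.presheaf.map (homOfLE (X.basicOpen_le f)).op).hom
  haveI : IsScalarTower Γ(X, U) Γ(X, V) (L.val.obj (op V)) := IsScalarTower.of_algebraMap_smul fun _ _ => rfl
  let eU := φ ⟨U, hU⟩
  let eV := φ ⟨V, hU.basicOpen f⟩
  let rL : L.val.obj (op U) →ₗ[Γ(X, U)] L.val.obj (op V) :=
    { toFun := fun m => resM L (X.basicOpen_le f) m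
      map_add' := fun a b => map_add _ a b
      map_smul' := fun r m => resM_smul L _ r m }
  have compat : ∀ x, rL (eU.symm x) = eV.symm (rA x) := fun x => by
    refine LinearMap.congr_fun (exteriorPower.linearMap_ext
      (f := rL ∘ₗ eU.symm.toLinearMap) (g := (eV.symm.toLinearMap.restrictScalars Γ(X, U)) ∘ₗ rA)
      (AlternatingMap.ext fun v => ?_)) x
    show rL (eU.symm (exteriorPower.ιMulti _ p v)) = eV.symm (rA (exteriorPower.ιMulti _ p v))
    rw [hrA]
    exact hφ ⟨U, hU⟩ ⟨V, hU.basicOpen f⟩ (X.basicOpen_le f) v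
  refine ⟨fun s => ?_, fun t ht => ?_⟩
  · obtain ⟨⟨x, ⟨_, n, rfl⟩⟩, hx⟩ := IsLocalizedModule.surj (Submonoid.powers f) rA (eV s)
    refine ⟨n, eU.symm x, ?_⟩
    show rL (eU.symm x) = _
    rw [compat, ← hx]
    show eV.symm (X.presheaf.map (homOfLE (X.basicOpen_le f)).op (f ^ n) • eV s) = _
    rw [map_smul, LinearEquiv.symm_apply_apply]
    rfl
  · have h0 : rA (eU t) = rA 0 := by
      rw [map_zero]
      apply eV.symm.injective
      rw [← compat, LinearEquiv.symm_apply_apply, map_zero]
      exact ht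
    obtain ⟨⟨_, n, rfl⟩, hn⟩ := IsLocalizedModule.exists_of_eq (S := Submonoid.powers f) h0
    refine ⟨n, eU.injective ?_⟩
    show eU (f ^ n • (show L.val.obj (op U) from t)) = eU 0
    rw [map_smul, map_zero]
    exact (show f ^ n • eU t = f ^ n • 0 from hn).trans (smul_zero _)

/-- An exterior power of a coherent module is coherent. -/
theorem isCoh_of_isExtPow (hE : Coh.IsCoh E) (hL : ExtPow.IsExtPow p E L) : Coh.IsCoh L := by
  haveI : Coh.IsQCoh E := hE.1
  haveI := isQCoh_of_isExtPow hL
  obtain ⟨φ, -⟩ := hL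
  refine (isCoh_iff_finite_sections L).2 ⟨inferInstance, fun U hU => ?_⟩
  haveI : Module.Finite Γ(X, U) (E.val.obj (op U)) := ((isCoh_iff_finite_sections E).1 hE).2 U hU
  exact Module.Finite.equiv (φ ⟨U, hU⟩).symm

end Groth.Agent.Hyper5
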