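import Groth.Agent.FundLocal.SmoothImm
import Groth.Agent.BertiniLib.RelDim
import Groth.Agent.EulerPn5.Wedge
import Groth.Agent.WedgeDual5.Sheaf
import Groth.Agent.EulerLib.SupportVanishing
import Mathlib.RingTheory.RingHom.StandardSmooth

/-!
# Forms on a smooth scheme over a field vanish above the dimension
-/

set_option autoImplicit false
set_option linter.style.haveILetI false
set_option backward.isDefEq.respectTransparency.types false
set_option maxHeartbeats 1000000

universe u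

open CategoryTheory CategoryTheory.Limits AlgebraicGeometry Opposite TopologicalSpace
open Groth.Agent.Coherent Groth.Agent.PicLib Groth.Agent.AmpleLib

namespace Groth.Agent.Hyper5

variable {k : Type u} [Field k] {X : Scheme.{u}} (f : X ⟶ Spec (CommRingCat.of k)) [Smooth f] [QuasiSeparated f]

theorem exists_local_basis (n : ℕ) (hn : topologicalKrullDim ↥X ≤ n) (x : X) :
    ∃ (m : ℕ) (V : X.Opens), m ≤ n ∧ IsAffineOpen V ∧ x ∈ V ∧
      Nonempty (Module.Basis (Fin m) Γ(X, V) Γ(Omega.sheaf f, V)) := by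
  obtain ⟨W, hW, V, hV, hxV, e, hst⟩ := Smooth.exists_isStandardSmooth f x
  obtain rfl : W = ⊤ := by
    haveI : Subsingleton ↥(Spec (CommRingCat.of k)) := inferInstanceAs (Subsingleton (PrimeSpectrum k))
    refine TopologicalSpace.Opens.ext (Set.eq_univ_of_forall fun y => ?_)
    rw [Subsingleton.elim y (f x)]
    exact e hxV
  haveI : Nontrivial Γ(X, V) := by
    haveI : Nonempty (V.toScheme) := ⟨⟨x, hxV⟩⟩
    infer_instance
  letI := (f.appLE ⊤ V e).hom.toAlgebra
  haveI : Algebra.IsStandardSmooth Γ(Spec (CommRingCat.of k), ⊤) Γ(X, V) := hst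
  obtain ⟨ι, σ, _, _, ⟨P⟩⟩ := ‹Algebra.IsStandardSmooth Γ(Spec (CommRingCat.of k), ⊤) Γ(X, V)›.out
  haveI hm : Algebra.IsStandardSmoothOfRelativeDimension P.dimension Γ(Spec (CommRingCat.of k), ⊤) Γ(X, V) :=
    P.isStandardSmoothOfRelativeDimension rfl
  obtain ⟨ψ⟩ := GenSmoothLib.exists_omega_equiv f hV hW e
  obtain ⟨b⟩ := OmegaLib.exists_basis_kaehler Γ(Spec (CommRingCat.of k), ⊤) Γ(X, V) P.dimension
  refine ⟨P.dimension, V, ?_, hV, hxV, ⟨b.map ψ⟩⟩
  let iso : k ≃+* Γ(Spec (CommRingCat.of k), ⊤) := (Scheme.ΓSpecIso (CommRingCat.of k)).symm.commRingCatIsoToRingEquiv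
  have hk : ((f.appLE ⊤ V e).hom.comp iso.toRingHom).IsStandardSmoothOfRelativeDimension P.dimension :=
    RingHom.isStandardSmoothOfRelativeDimension_respectsIso.2 (f.appLE ⊤ V e).hom iso hm
  algebraize [(f.appLE ⊤ V e).hom.comp iso.toRingHom]
  obtain ⟨M, hM⟩ := Ideal.exists_maximal Γ(X, V)
  obtain ⟨Q, hQ, -⟩ := Ideal.exists_minimalPrimes_le (bot_le (a := M))
  have h1 := BertiniLib.ringKrullDim_quotient_minimalPrime (k := k) (C := Γ(X, V)) P.dimension Q hQ
  have h2 : ringKrullDim Γ(X, V) ≤ (n : WithBot ℕ∞) := by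
    refine le_trans ?_ hn
    rw [← PrimeSpectrum.topologicalKrullDim_eq_ringKrullDim Γ(X, V)]
    exact hV.fromSpec.isOpenEmbedding.isInducing.topologicalKrullDim_le
  have h3 : ((P.dimension : ℕ) : WithBot ℕ∞) ≤ (n : WithBot ℕ∞) :=
    h1.symm.le.trans ((ringKrullDim_le_of_surjective _ Ideal.Quotient.mk_surjective).trans h2)
  exact_mod_cast h3

theorem isFinLocFree_omega (n : ℕ) (hn : topologicalKrullDim ↥X ≤ n) :
    FlatMod.IsFinLocFree (Omega.sheaf f) := fun x => by
  obtain ⟨m, V, -, hV, hxV, ⟨b⟩⟩ := exists_local_basis f n hn x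
  haveI := MorProj.isQCoh_omega f
  exact ⟨V, m, hxV, OmegaLib.exists_iso_freeMod_affine (Omega.sheaf f) hV b⟩

theorem isZero_extPow (n : ℕ) (hn : topologicalKrullDim ↥X ≤ n) {p : ℕ} (hp : n < p) {L : X.Modules}
    (hL : ExtPow.IsExtPow p (Omega.sheaf f) L) : IsZero L := by
  obtain ⟨φ, -⟩ := hL
  rw [IsZero.iff_id_eq_zero]
  refine InjMod14.Kosz.hom_ext_affine _ _ fun U s => InjMod14.Kosz.sec_ext fun x hx => ?_
  obtain ⟨m, A, hm, hA, hxA, ⟨bA⟩⟩ := exists_local_basis f n hn x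
  obtain ⟨(V : X.Opens), hV, hxV, hle⟩ := Opens.isBasis_iff_nbhd.mp X.isBasis_affineOpens
    (show x ∈ A ⊓ U.1 from ⟨hxA, hx⟩)
  refine ⟨V, hle.trans inf_le_right, hxV, ?_⟩
  haveI := MorProj.isQCoh_omega f
  obtain ⟨eA⟩ := OmegaLib.exists_iso_freeMod_affine (Omega.sheaf f) hA bA
  obtain ⟨b⟩ := Props12.exists_basis_sections eA (hle.trans inf_le_left)
  let b' : Module.Basis (Fin m) Γ(X, V) ((Omega.sheaf f).val.obj (op V)) := b
  haveI : Subsingleton ↥(⋀[Γ(X, V)]^p ((Omega.sheaf f).val.obj (op V))) := by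
    have h := b'.exteriorPower p
    haveI : IsEmpty (Set.powersetCard (Fin m) p) := ⟨fun ⟨s, hs⟩ => by
      have h2 := s.card_le_univ
      rw [Fintype.card_fin] at h2
      have : s.card = p := hs
      omega⟩
    exact h.repr.injective.subsingleton
  haveI : Subsingleton Γ(L, V) := (φ ⟨V, hV⟩).injective.subsingleton
  exact Subsingleton.elim _ _

end Groth.Agent.Hyper5
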