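import Groth.Agent.Hyper5.Stupid
import Mathlib.Algebra.Homology.HomotopyCategory.HomComplexSingle
import Mathlib.Algebra.Homology.DerivedCategory.TStructure

/-!
# Hypercohomology of a complex of acyclic objects is computed by the cocycles
-/

set_option autoImplicit false
set_option linter.style.haveILetI false
set_option linter.unusedSectionVars false
set_option backward.isDefEq.respectTransparency false
set_option maxHeartbeats 1000000

universe w w' v u

open CategoryTheory CategoryTheory.Limits CategoryTheory.Pretriangulated DerivedCategory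

namespace Groth.Agent.Hyper5

open CochainComplex.HomComplex

variable {A : Type u} [Category.{v} A] [Abelian A] [HasExt.{w'} A] [HasDerivedCategory.{w} A] (T : A)

/-- The class of a map `T ⟶ Z` in degree `n`. -/
noncomputable def basicClass (Z : A) (n : ℤ) :
    (T ⟶ Z) →+ E1Deg.HT T ((HomologicalComplex.single A (ComplexShape.up ℤ) n).obj Z) n where
  toFun φ := (E1Deg.HTsingleEquiv.{w'} T Z n n 0 (by simp)).symm (Abelian.Ext.mk₀ φ)
  map_zero' := by rw [Abelian.Ext.mk₀_zero, map_zero]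
  map_add' a b := by rw [Abelian.Ext.mk₀_add, map_add]

theorem bijective_basicClass (Z : A) (n : ℤ) : Function.Bijective (basicClass.{w, w'} T Z n) :=
  (E1Deg.HTsingleEquiv.{w'} T Z n n 0 (by simp)).symm.bijective.comp (Abelian.Ext.mk₀_bijective _ _)

theorem basicClass_comp {Z Z' : A} (n : ℤ) (g : Z ⟶ Z') (φ : T ⟶ Z) :
    E1Deg.HTmap T ((HomologicalComplex.single A _ n).map g) n (basicClass.{w, w'} T Z n φ) =
      basicClass.{w, w'} T Z' n (φ ≫ g) := by
  apply (E1Deg.HTsingleEquiv.{w'} T Z' n n 0 (by simp)).injective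
  rw [HTsingleEquiv_natural]
  show Abelian.Ext.comp ((E1Deg.HTsingleEquiv.{w'} T Z n n 0 (by simp)) ((E1Deg.HTsingleEquiv.{w'} T Z n n 0 (by simp)).symm _))
    _ _ = (E1Deg.HTsingleEquiv.{w'} T Z' n n 0 (by simp)) ((E1Deg.HTsingleEquiv.{w'} T Z' n n 0 (by simp)).symm _)
  rw [AddEquiv.apply_symm_apply, AddEquiv.apply_symm_apply, Abelian.Ext.mk₀_comp_mk₀]

variable (L : CochainComplex A ℤ) (n : ℤ)

/-- The map of the cocycles in degree `n` to `L`. -/
noncomputable def cocycleMap : (HomologicalComplex.single A (ComplexShape.up ℤ) n).obj (kernel (L.d n (n + 1))) ⟶ L :=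
  HomologicalComplex.mkHomFromSingle (kernel.ι (L.d n (n + 1))) fun j hj => by
    obtain rfl : n + 1 = j := hj
    exact kernel.condition _

/-- The class of a cocycle. -/
noncomputable def cocycleClass : (T ⟶ kernel (L.d n (n + 1))) →+ E1Deg.HT T L n :=
  (E1Deg.HTmap T (cocycleMap L n) n).comp (basicClass.{w, w'} T _ n)

theorem cocycle_low (hlow : ∀ m, m < n - 1 → IsZero (L.X m))
    (hac : Subsingleton (Abelian.Ext.{w'} T (L.X (n - 1)) 1)) :
    Function.Surjective (cocycleClass.{w, w'} T L n) ∧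
      ∀ φ, cocycleClass.{w, w'} T L n φ = 0 ↔
        ∃ ψ : T ⟶ L.X (n - 1), ψ ≫ L.d (n - 1) n = φ ≫ kernel.ι (L.d n (n + 1)) := by
  let dbar : L.X (n - 1) ⟶ kernel (L.d n (n + 1)) := kernel.lift _ (L.d (n - 1) n) (L.d_comp_d _ _ _)
  let φ' := (HomologicalComplex.single A (ComplexShape.up ℤ) n).map dbar
  let C₀ := CochainComplex.mappingCone φ'
  let α : Cochain ((HomologicalComplex.single A (ComplexShape.up ℤ) n).obj (L.X (n - 1))) L (-1) :=
    Cochain.fromSingleMk (p := n) (𝟙 (L.X (n - 1))) (by omega)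
  have hα : δ (-1) 0 α = Cochain.ofHom (φ' ≫ cocycleMap L n) := by
    refine (Cochain.δ_fromSingleMk _ _ 0 n (add_zero n)).trans ?_
    rw [Category.id_comp]
    refine Cochain.ext₀ _ _ fun p => ?_
    by_cases hp : p = n
    · subst hp
      rw [Cochain.fromSingleMk_v, Cochain.ofHom_v, HomologicalComplex.comp_f]
      simp [φ', cocycleMap, dbar, HomologicalComplex.single_map_f_self]
    · exact (HomologicalComplex.isZero_single_obj_X (ComplexShape.up ℤ) n _ p hp).eq_of_src _ _
  let Ψ : C₀ ⟶ L := CochainComplex.mappingCone.desc φ' α (cocycleMap L n) hα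
  have hzero : ∀ m, m ≠ n → m ≠ n - 1 → IsZero (C₀.X m) := fun m h1 h2 =>
    (CochainComplex.mappingCone.isZero_X_iff φ' m).2
      ⟨HomologicalComplex.isZero_single_obj_X (ComplexShape.up ℤ) n _ _ (by omega),
        HomologicalComplex.isZero_single_obj_X (ComplexShape.up ℤ) n _ _ h1⟩
  have hΨn1 : IsIso (Ψ.f (n - 1)) := by
    refine ⟨(HomologicalComplex.singleObjXSelf (ComplexShape.up ℤ) n (L.X (n - 1))).inv ≫
      (CochainComplex.mappingCone.inl φ').v n (n - 1) (by omega), ?_, ?_⟩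
    · refine CochainComplex.mappingCone.ext_from φ' n (n - 1) (by omega) ?_ ?_
      · rw [CochainComplex.mappingCone.inl_v_desc_f_assoc, Category.comp_id]
        simp [α]
      · exact (HomologicalComplex.isZero_single_obj_X (ComplexShape.up ℤ) n _ _ (by omega)).eq_of_src _ _
    · rw [Category.assoc, CochainComplex.mappingCone.inl_v_desc_f]
      simp [α]
  have hinr : (CochainComplex.mappingCone.inr φ').f n ≫ Ψ.f n = (cocycleMap L n).f n :=
    CochainComplex.mappingCone.inr_f_desc_f _ _ _ _ _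
  haveI hmn : Mono ((cocycleMap L n).f n) := by
    simp only [cocycleMap, HomologicalComplex.mkHomFromSingle_f]
    infer_instance
  haveI hin : IsIso ((CochainComplex.mappingCone.inr φ').f n) := by
    refine ⟨(CochainComplex.mappingCone.snd φ').v n n (add_zero n), by simp, ?_⟩
    have h := CochainComplex.mappingCone.id_X φ' n (n + 1) rfl
    rw [show (CochainComplex.mappingCone.inl φ').v (n + 1) n (by omega) = 0 from
      (HomologicalComplex.isZero_single_obj_X (ComplexShape.up ℤ) n _ _ (by omega)).eq_of_src _ _, comp_zero, zero_add] at h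
    exact h
  haveI : Mono Ψ := HomologicalComplex.mono_of_mono_f _ fun m => by
    by_cases h1 : m = n
    · subst h1
      rw [show Ψ.f m = inv ((CochainComplex.mappingCone.inr φ').f m) ≫ (cocycleMap L m).f m by
        rw [← hinr, IsIso.inv_hom_id_assoc]]
      infer_instance
    · by_cases h2 : m = n - 1
      · subst h2; infer_instance
      · exact ⟨fun g g' _ => (hzero m h1 h2).eq_of_tgt g g'⟩
  let S : ShortComplex (CochainComplex A ℤ) := ShortComplex.mk Ψ (cokernel.π Ψ) (cokernel.condition Ψ)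
  have hS : S.ShortExact :=
    { exact := ShortComplex.exact_of_g_is_cokernel _ (cokernelIsCokernel Ψ)
      mono_f := inferInstanceAs (Mono Ψ)
      epi_g := inferInstanceAs (Epi (cokernel.π Ψ)) }
  have hSm : ∀ m, (ShortComplex.mk (Ψ.f m) ((cokernel.π Ψ).f m)
      (by rw [← HomologicalComplex.comp_f, cokernel.condition]; rfl)).ShortExact := fun m =>
    (ShortComplex.ShortExact.map_of_exact hS (HomologicalComplex.eval A (ComplexShape.up ℤ) m))
  haveI hepi : ∀ m, Epi ((cokernel.π Ψ).f m) := fun m => (hSm m).epi_g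
  have hCz : ∀ m, m < n → IsZero ((cokernel Ψ).X m) := fun m hm => by
    have h0 : (cokernel.π Ψ).f m = 0 := by
      by_cases h2 : m = n - 1
      · subst h2
        rw [← cancel_epi (Ψ.f (n - 1)), comp_zero, ← HomologicalComplex.comp_f, cokernel.condition]
        rfl
      · exact (hlow m (by omega)).eq_of_src _ _
    rw [IsZero.iff_id_eq_zero, ← cancel_epi ((cokernel.π Ψ).f m), h0, zero_comp, zero_comp]
  haveI hmono : Mono ((cokernel Ψ).d n (n + 1)) := by
    haveI : IsIso ((cokernel.π Ψ).f (n + 1)) := by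
      haveI := (hSm (n + 1)).epi_g
      exact (hSm (n + 1)).isIso_g_iff.2 (hzero (n + 1) (by omega) (by omega))
    refine Preadditive.mono_of_cancel_zero _ fun z hz => ?_
    obtain ⟨A', π, hπ, x, hx⟩ := surjective_up_to_refinements_of_epi ((cokernel.π Ψ).f n) z
    have hxd : x ≫ L.d n (n + 1) = 0 := by
      rw [← cancel_mono ((cokernel.π Ψ).f (n + 1)), Category.assoc, ← (cokernel.π Ψ).comm, ← Category.assoc, ← hx,
        Category.assoc, hz, comp_zero, zero_comp]
    have hk : x = (kernel.lift _ x hxd ≫ (HomologicalComplex.singleObjXSelf (ComplexShape.up ℤ) n _).inv ≫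
        (CochainComplex.mappingCone.inr φ').f n) ≫ Ψ.f n := by
      simp [hinr, cocycleMap]
    rw [← cancel_epi π, comp_zero, hx, hk, Category.assoc,
      show Ψ.f n ≫ (cokernel.π Ψ).f n = 0 by rw [← HomologicalComplex.comp_f, cokernel.condition]; rfl, comp_zero]
  haveI : (cokernel Ψ).IsGE (n + 1) := by
    rw [CochainComplex.isGE_iff]
    intro m hm
    by_cases h : m = n
    · subst h
      rw [HomologicalComplex.exactAt_iff' _ (m - 1) m (m + 1) (by simp) (by simp)]
      exact (ShortComplex.exact_iff_mono _ ((hCz (m - 1) (by omega)).eq_of_src _ _)).2 hmono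
    · exact ShortComplex.exact_of_isZero_X₂ _ (hCz m (by omega))
  have hC : ∀ j, j ≤ n → Subsingleton (E1Deg.HT T S.X₃ j) := fun j hj => by
    haveI : (Q.obj (cokernel Ψ)).IsGE (n + 1) := inferInstance
    haveI : ((shiftFunctor (DerivedCategory A) j).obj (Q.obj (cokernel Ψ))).IsGE (n + 1 - j) :=
      TStructure.t.isGE_shift _ (n + 1) j (n + 1 - j) (by omega)
    exact ⟨fun f g => (TStructure.t.zero f 0 (n + 1 - j) (by omega)).trans
      (TStructure.t.zero g 0 (n + 1 - j) (by omega)).symm⟩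
  have hΨ : Function.Bijective (E1Deg.HTmap T Ψ n) := bijective_f T hS n (hC n le_rfl) (hC (n - 1) (by omega))
  have hfac : ∀ φ, cocycleClass.{w, w'} T L n φ =
      E1Deg.HTmap T Ψ n (E1Deg.HTmap T (CochainComplex.mappingCone.inr φ') n (basicClass.{w, w'} T _ n φ)) := fun φ => by
    rw [← E1Deg.HTmap_comp]
    show E1Deg.HTmap T (cocycleMap L n) n _ = _
    congr 2
    exact (CochainComplex.mappingCone.inr_desc _ _ _ _).symm
  have hdist := Triangle.shift_distinguished _ (DerivedCategory.mappingCone_triangle_distinguished φ') n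
  haveI hX1 : Subsingleton ((singleFunctor A 0).obj T ⟶
      (Q.obj ((HomologicalComplex.single A (ComplexShape.up ℤ) n).obj (L.X (n - 1))))⟦n⟧⟦(1 : ℤ)⟧) := by
    haveI : Subsingleton (E1Deg.HT T ((HomologicalComplex.single A (ComplexShape.up ℤ) n).obj (L.X (n - 1))) (n + 1)) :=
      (E1Deg.HTsingleEquiv.{w'} T _ n (n + 1) 1 (by simp)).toEquiv.subsingleton
    exact (E1Deg.homCongrRight ((shiftFunctorAdd' (DerivedCategory A) n 1 (n + 1) rfl).app _)).symm.toEquiv.subsingleton
  refine ⟨fun x => ?_, fun φ => ⟨fun h => ?_, ?_⟩⟩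
  · obtain ⟨y, rfl⟩ := hΨ.surjective x
    obtain ⟨g, hg⟩ := Triangle.coyoneda_exact₃ _ hdist (y : _ ⟶ _)
      (Subsingleton.elim (α := (singleFunctor A 0).obj T ⟶
        (Q.obj ((HomologicalComplex.single A (ComplexShape.up ℤ) n).obj (L.X (n - 1))))⟦n⟧⟦(1 : ℤ)⟧) _ _)
    obtain ⟨φ, hφ⟩ := (bijective_basicClass.{w, w'} T (kernel (L.d n (n + 1))) n).surjective (n.negOnePow • g)
    refine ⟨φ, ?_⟩
    rw [hfac, hφ]
    congr 1
    rw [E1Deg.HTmap_apply, ← units_comp]
    exact hg.symm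
  · rw [hfac] at h
    have h0 := hΨ.injective (h.trans (map_zero _).symm)
    obtain ⟨g, hg⟩ := Triangle.coyoneda_exact₂ _ hdist (basicClass.{w, w'} T _ n φ : _ ⟶ _)
      (show (basicClass.{w, w'} T _ n φ) ≫ (n.negOnePow • (Q.map (CochainComplex.mappingCone.inr φ'))⟦n⟧') = 0 by
        rw [units_comp]
        simp only [Units.smul_def, Preadditive.zsmul_comp]
        rw [show basicClass.{w, w'} T _ n φ ≫ (Q.map (CochainComplex.mappingCone.inr φ'))⟦n⟧' = 0 from h0, smul_zero])
    obtain ⟨ψ, hψ⟩ := (bijective_basicClass.{w, w'} T (L.X (n - 1)) n).surjective (n.negOnePow • g)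
    refine ⟨ψ, ?_⟩
    have h2 : basicClass.{w, w'} T _ n φ = basicClass.{w, w'} T _ n (ψ ≫ dbar) := by
      rw [← basicClass_comp, hψ, E1Deg.HTmap_apply, ← units_comp]
      exact hg
    rw [(bijective_basicClass.{w, w'} T _ n).injective h2, Category.assoc, kernel.lift_ι]
  · rintro ⟨ψ, hψ⟩
    have : φ = ψ ≫ dbar := by rw [← cancel_mono (kernel.ι (L.d n (n + 1))), Category.assoc, kernel.lift_ι, hψ]
    have hz : Q.map φ' ≫ Q.map (CochainComplex.mappingCone.inr φ') = 0 :=
      comp_distTriang_mor_zero₁₂ _ (DerivedCategory.mappingCone_triangle_distinguished φ')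
    rw [hfac, this, ← basicClass_comp]
    have h1 : E1Deg.HTmap T (CochainComplex.mappingCone.inr φ') n (E1Deg.HTmap T φ' n (basicClass.{w, w'} T _ n ψ)) = 0 := by
      rw [E1Deg.HTmap_apply, E1Deg.HTmap_apply, Category.assoc, ← Functor.map_comp, hz, Functor.map_zero, comp_zero]
    exact (congrArg (E1Deg.HTmap T Ψ n) h1).trans (map_zero _)

/-- For a bounded below complex of acyclic objects hypercohomology is cohomology of `Hom(T, -)`. -/
theorem cocycle_exact (a : ℤ) (ha : ∀ m, m < a → IsZero (L.X m))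
    (hac : ∀ (p : ℤ) (m : ℕ), Subsingleton (Abelian.Ext.{w'} T (L.X p) (m + 1))) :
    Function.Surjective (cocycleClass.{w, w'} T L n) ∧
      ∀ φ, cocycleClass.{w, w'} T L n φ = 0 ↔
        ∃ ψ : T ⟶ L.X (n - 1), ψ ≫ L.d (n - 1) n = φ ≫ kernel.ι (L.d n (n + 1)) := by
  by_cases hna : n - 1 < a
  · exact cocycle_low T L n (fun m hm => ha m (by omega)) (hac _ 0)
  let σ := E1Deg.sigmaGE L (n - 1)
  have hσ : ∀ m, (h : n - 1 ≤ m) → (E1Deg.emb (n - 1)).f (m - (n - 1)).toNat = m := fun m h => by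
    simp only [ComplexShape.embeddingUpIntGE_f]; omega
  let x : ∀ m, n - 1 ≤ m → (σ.X m ≅ L.X m) := fun m h => L.stupidTruncXIso _ (hσ m h)
  have hι : ∀ m (h : n - 1 ≤ m), (E1Deg.sigmaGEι L (n - 1)).f m = (x m h).hom := fun m h =>
    E1Deg.sigmaGEι_f_eq L (n - 1) (hσ m h)
  obtain ⟨h1, h2⟩ := cocycle_low T σ n (fun m hm => L.isZero_stupidTrunc_X _ m fun j hj => by
      simp only [ComplexShape.embeddingUpIntGE_f] at hj; omega)
    ⟨fun u v => by
      haveI := hac (n - 1) 0
      have h := congrArg (fun y => Abelian.Ext.comp y (Abelian.Ext.mk₀ (x (n - 1) le_rfl).inv) (add_zero 1))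
        (Subsingleton.elim (u.comp (Abelian.Ext.mk₀ (x (n - 1) le_rfl).hom) (add_zero 1))
          (v.comp (Abelian.Ext.mk₀ (x (n - 1) le_rfl).hom) (add_zero 1)))
      simpa [Abelian.Ext.comp_assoc_of_second_deg_zero] using h⟩
  let κ : kernel (σ.d n (n + 1)) ≅ kernel (L.d n (n + 1)) :=
    kernel.mapIso _ _ (x n (by omega)) (x (n + 1) (by omega)) (by
      rw [← hι n (by omega), ← hι (n + 1) (by omega)]
      exact ((E1Deg.sigmaGEι L (n - 1)).comm n (n + 1)).symm)
  have hκ : κ.hom ≫ kernel.ι (L.d n (n + 1)) = kernel.ι (σ.d n (n + 1)) ≫ (x n (by omega)).hom :=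
    kernel.lift_ι _ _ _
  have hmap : cocycleMap σ n ≫ E1Deg.sigmaGEι L (n - 1) =
      (HomologicalComplex.single A (ComplexShape.up ℤ) n).map κ.hom ≫ cocycleMap L n := by
    refine HomologicalComplex.from_single_hom_ext ?_
    simp [cocycleMap, HomologicalComplex.single_map_f_self, hι n (by omega), hκ]
  have hc : ∀ φ, cocycleClass.{w, w'} T L n (φ ≫ κ.hom) =
      E1Deg.HTmap T (E1Deg.sigmaGEι L (n - 1)) n (cocycleClass.{w, w'} T σ n φ) := fun φ => by
    show E1Deg.HTmap T (cocycleMap L n) n _ = E1Deg.HTmap T _ n (E1Deg.HTmap T (cocycleMap σ n) n _)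
    rw [← basicClass_comp, ← E1Deg.HTmap_comp, ← E1Deg.HTmap_comp, hmap]
  have hb : Function.Bijective (E1Deg.HTmap T (E1Deg.sigmaGEι L (n - 1)) n) := by
    obtain ⟨r, hr⟩ : ∃ r : ℕ, n - 1 = a + r := ⟨(n - 1 - a).toNat, by omega⟩
    rw [hr]
    refine bijective_ι T a ha n r fun p hp hp' => ⟨?_, ?_⟩
    · exact subsingleton_single T _ p n fun m hm => by
        obtain ⟨m, rfl⟩ : ∃ j, m = j + 1 := ⟨m - 1, by omega⟩
        exact hac p m
    · exact subsingleton_single T _ p (n - 1) fun m hm => by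
        obtain ⟨m, rfl⟩ : ∃ j, m = j + 1 := ⟨m - 1, by omega⟩
        exact hac p m
  refine ⟨fun y => ?_, fun φ => ?_⟩
  · obtain ⟨y, rfl⟩ := hb.surjective y
    obtain ⟨φ, rfl⟩ := h1 y
    exact ⟨φ ≫ κ.hom, hc φ⟩
  · obtain ⟨φ, rfl⟩ : ∃ φ', φ' ≫ κ.hom = φ := ⟨φ ≫ κ.inv, by simp⟩
    rw [hc, ← map_zero (E1Deg.HTmap T (E1Deg.sigmaGEι L (n - 1)) n), hb.injective.eq_iff, h2]
    have hd := (E1Deg.sigmaGEι L (n - 1)).comm (n - 1) n
    rw [hι (n - 1) le_rfl, hι n (by omega)] at hd
    refine ⟨fun ⟨ψ, hψ⟩ => ⟨ψ ≫ (x (n - 1) le_rfl).hom, ?_⟩, fun ⟨ψ, hψ⟩ => ⟨ψ ≫ (x (n - 1) le_rfl).inv, ?_⟩⟩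
    · rw [Category.assoc, hd, reassoc_of% hψ, Category.assoc, hκ]
    · rw [← cancel_mono (x n (by omega)).hom, Category.assoc, Category.assoc, ← hd, Iso.inv_hom_id_assoc, hψ,
        Category.assoc, hκ, Category.assoc]

end Groth.Agent.Hyper5
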