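import Groth.Agent.DR15.ExtBaseChange

/-!
# Exterior powers along a bijective change of rings
-/

set_option autoImplicit false

universe u

open TensorProduct

namespace Groth.Agent.Hyper5

variable {A B M N : Type u} [CommRing A] [CommRing B] [Algebra A B] [AddCommGroup M] [Module A M]
  [AddCommGroup N] [Module A N] [Module B N] [IsScalarTower A B N]

/-- Exterior powers along a bijective change of rings. -/
theorem exists_extPow_bijective (hA : Function.Bijective (algebraMap A B)) (θ : M →ₗ[A] N)
    (hθ : Function.Bijective θ) (p : ℕ) :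
    ∃ g : ↥(⋀[A]^p M) →ₗ[A] ↥(⋀[B]^p N), Function.Bijective g ∧
      ∀ v : Fin p → M, g (exteriorPower.ιMulti A p v) = exteriorPower.ιMulti B p (θ ∘ v) := by
  have key : ∀ (P : Type u) [AddCommGroup P] [Module A P], Function.Bijective (fun x : P => (1 : B) ⊗ₜ[A] x) := by
    intro P _ _
    let c : A ≃ₗ[A] B := LinearEquiv.ofBijective (Algebra.linearMap A B) hA
    let e : B ⊗[A] P ≃ₗ[A] P := (TensorProduct.congr c.symm (LinearEquiv.refl A P)).trans (TensorProduct.lid A P)
    have h1 : ∀ x : P, e ((1 : B) ⊗ₜ[A] x) = x := fun x => by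
      show c.symm 1 • x = x
      rw [show c.symm 1 = 1 from c.injective (by rw [LinearEquiv.apply_symm_apply]; exact (map_one (algebraMap A B)).symm), one_smul]
    exact ⟨fun x y h => by rw [← h1 x, ← h1 y]; exact congrArg e h,
      fun z => ⟨e z, e.injective (h1 (e z))⟩⟩
  have hbc : IsBaseChange B θ := by
    refine IsBaseChange.of_equiv (LinearEquiv.ofBijective (θ.liftBaseChange B) ?_) fun x => ?_
    · have h2 : (θ.liftBaseChange B : B ⊗[A] M → N) ∘ (fun x : M => (1 : B) ⊗ₜ[A] x) = θ := funext fun x => by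
        simp
      exact ((Function.Bijective.of_comp_iff _ (key M)).1 (by rw [h2]; exact hθ))
    · show θ.liftBaseChange B (1 ⊗ₜ x) = θ x
      simp
  let g : ↥(⋀[A]^p M) →ₗ[A] ↥(⋀[B]^p N) :=
    exteriorPower.alternatingMapLinearEquiv
      { toMultilinearMap := ((exteriorPower.ιMulti B p (M := N)).toMultilinearMap.restrictScalars A).compLinearMap
          fun _ => θ
        map_eq_zero_of_eq' := fun v a b hab hne =>
          (exteriorPower.ιMulti B p).map_eq_zero_of_eq _ (congrArg θ hab) hne }
  have hg : ∀ v, g (exteriorPower.ιMulti A p v) = exteriorPower.ιMulti B p (θ ∘ v) := fun v =>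
    exteriorPower.alternatingMapLinearEquiv_apply_ιMulti _ _
  refine ⟨g, ?_, hg⟩
  have hb := DR15.exteriorPower_isBaseChange hbc p g hg
  have h3 : (g : _ → _) = hb.equiv ∘ (fun x => (1 : B) ⊗ₜ[A] x) := funext fun x => by
    show g x = hb.equiv (1 ⊗ₜ x)
    rw [hb.equiv_tmul, one_smul]
  rw [h3]
  exact hb.equiv.bijective.comp (key _)

end Groth.Agent.Hyper5
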