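import Groth.Agent.Hyper5.Stupid
import Groth.Prelude.Def_Coh

/-!
# Hypercohomology of a bounded complex with a single contributing graded piece
-/

set_option autoImplicit false
set_option linter.style.haveILetI false
set_option backward.isDefEq.respectTransparency false
set_option maxHeartbeats 1000000

universe w u

open CategoryTheory CategoryTheory.Limits AlgebraicGeometry TopologicalSpace DerivedCategory

namespace Groth.Agent.Hyper5

section Nat

variable {A : Type*} [Category A] [Abelian A] {K : CochainComplex A ℤ}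

theorem trunc_comp_ι (φ : K ⟶ K) (i : ℤ) :
    HomologicalComplex.stupidTruncMap φ (E1Deg.emb i) ≫ E1Deg.sigmaGEι K i = E1Deg.sigmaGEι K i ≫ φ := by
  refine HomologicalComplex.hom_ext _ _ fun m => ?_
  by_cases hm : ∃ n : ℕ, (E1Deg.emb i).f n = m
  · obtain ⟨n, hn⟩ := hm
    rw [HomologicalComplex.comp_f, HomologicalComplex.comp_f, E1Deg.sigmaGEι_f_eq K i hn]
    exact HomologicalComplex.stupidTruncMap_stupidTruncXIso_hom φ _ hn
  · exact (K.isZero_stupidTrunc_X _ m (by simpa using hm)).eq_of_src _ _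

theorem trunc_comp_π (φ : K ⟶ K) (i : ℤ) :
    HomologicalComplex.stupidTruncMap φ (E1Deg.emb i) ≫ E1Deg.sigmaGEπ K i =
      E1Deg.sigmaGEπ K i ≫ (HomologicalComplex.single A (ComplexShape.up ℤ) i).map (φ.f i) := by
  apply HomologicalComplex.to_single_hom_ext
  rw [HomologicalComplex.comp_f, HomologicalComplex.comp_f, E1Deg.sigmaGEπ_f,
    ← Category.assoc, HomologicalComplex.stupidTruncMap_stupidTruncXIso_hom φ _ (E1Deg.emb_f_zero i),
    HomologicalComplex.single_map_f_self]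
  simp

end Nat

variable (X : Scheme.{u}) [HasDerivedCategory.{w} (Sheaf (Opens.grothendieckTopology X) AddCommGrpCat.{u})]

/-- `H^a(X, M[-i]) ≃ H^q(X, M)`, with naturality. -/
theorem exists_single_equiv {B : Sheaf (Opens.grothendieckTopology X) AddCommGrpCat.{u}} {M : X.Modules}
    (e : B ≅ Coh.toAb M) (i a : ℤ) (q : ℕ) (h : i + q = a) :
    ∃ θ : E1Deg.HT (CohCx.freeSheaf (Opens.grothendieckTopology X) ⊤)
        ((HomologicalComplex.single _ (ComplexShape.up ℤ) i).obj B) a ≃+ Coh.HH X M q,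
      ∀ (φ : B ⟶ B) (s : Coh.toAb M ⟶ Coh.toAb M), φ ≫ e.hom = e.hom ≫ s → ∀ x,
        θ (E1Deg.HTmap _ ((HomologicalComplex.single _ (ComplexShape.up ℤ) i).map φ) a x) = Sheaf.H.map s q (θ x) := by
  let l := E1Deg.extCongrLeft.{u} (E1Deg.freeSheafIsoConstant (Opens.grothendieckTopology X)
    (CategoryTheory.Limits.isTerminalTop : IsTerminal (⊤ : X.Opens))) (Coh.toAb M) q
  refine ⟨((E1Deg.HTsingleEquiv.{u} _ B i a q h).trans (E1Deg.extCongrRight _ e q)).trans l, fun φ s hφ x => ?_⟩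
  simp only [AddEquiv.trans_apply]
  rw [HTsingleEquiv_natural]
  generalize E1Deg.HTsingleEquiv.{u} _ B i a q h x = z
  show ((Abelian.Ext.mk₀ _).comp ((z.comp (Abelian.Ext.mk₀ φ) (add_zero q)).comp (Abelian.Ext.mk₀ e.hom) (add_zero q)) (zero_add q)) =
    ((Abelian.Ext.mk₀ _).comp (z.comp (Abelian.Ext.mk₀ e.hom) (add_zero q)) (zero_add q)).comp (Abelian.Ext.mk₀ s) (add_zero q)
  rw [Abelian.Ext.comp_assoc_of_second_deg_zero, Abelian.Ext.mk₀_comp_mk₀, hφ]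
  simp [Abelian.Ext.comp_assoc_of_second_deg_zero, Abelian.Ext.comp_assoc_of_third_deg_zero]

theorem subsingleton_single_sheaf {B : Sheaf (Opens.grothendieckTopology X) AddCommGrpCat.{u}} {M : X.Modules}
    (e : B ≅ Coh.toAb M) (p a : ℤ) (h : ∀ q : ℕ, p + q = a → Subsingleton (Coh.HH X M q)) :
    Subsingleton (E1Deg.HT (CohCx.freeSheaf (Opens.grothendieckTopology X) ⊤)
        ((HomologicalComplex.single _ (ComplexShape.up ℤ) p).obj B) a) := by
  by_cases hlt : a < p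
  · exact subsingleton_single_of_lt _ B p a hlt
  obtain ⟨θ, -⟩ := exists_single_equiv X e p a (a - p).toNat (by omega)
  haveI := h (a - p).toNat (by omega)
  exact θ.toEquiv.subsingleton

variable {X} (K : CochainComplex (Sheaf (Opens.grothendieckTopology X) AddCommGrpCat.{u}) ℤ)
  (N : ℕ) (hlo : ∀ m, m < 0 → IsZero (K.X m)) (hhi : ∀ m, (N : ℤ) ≤ m → IsZero (K.X m))
  (M : ℕ → X.Modules) (e : ∀ p : ℕ, K.X (p : ℤ) ≅ Coh.toAb (M p))
  (hM : ∀ p q : ℕ, p < N → p ≠ q → Subsingleton (Coh.HH X (M p) q))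

include hlo hhi hM e

theorem subsingleton_HT_of_diag (n : ℤ) (hn : ∀ p : ℕ, p < N → n ≠ 2 * (p : ℤ)) :
    Subsingleton (E1Deg.HT (CohCx.freeSheaf (Opens.grothendieckTopology X) ⊤) K n) := by
  refine subsingleton_HT _ 0 N hlo hhi n fun p hp hpN => ?_
  obtain ⟨p, rfl⟩ := Int.eq_ofNat_of_zero_le hp
  exact subsingleton_single_sheaf X (e p) _ n fun q hq => hM p q (by omega) (by have := hn p (by omega); omega)

theorem exists_diag_equiv (i : ℕ) (hi : i < N) :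
    ∃ θ : E1Deg.HT (CohCx.freeSheaf (Opens.grothendieckTopology X) ⊤) K (2 * (i : ℤ)) ≃+ Coh.HH X (M i) i,
      ∀ (φ : K ⟶ K) (s : Coh.toAb (M i) ⟶ Coh.toAb (M i)), φ.f (i : ℤ) ≫ (e i).hom = (e i).hom ≫ s → ∀ x,
        θ (E1Deg.HTmap _ φ (2 * (i : ℤ)) x) = Sheaf.H.map s i (θ x) := by
  have hv : ∀ p : ℤ, 0 ≤ p → p < N → p ≠ i → ∀ a : ℤ, (a = 2 * (i : ℤ) ∨ a = 2 * (i : ℤ) - 1 ∨ a = 2 * (i : ℤ) + 1) →
      Subsingleton (E1Deg.HT (CohCx.freeSheaf (Opens.grothendieckTopology X) ⊤)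
        ((HomologicalComplex.single _ (ComplexShape.up ℤ) p).obj (K.X p)) a) := fun p hp hpN hpi a ha => by
    obtain ⟨p, rfl⟩ := Int.eq_ofNat_of_zero_le hp
    exact subsingleton_single_sheaf X (e p) _ a fun q hq => hM p q (by omega) (by omega)
  obtain ⟨h1, h2⟩ := bijective_pair (CohCx.freeSheaf (Opens.grothendieckTopology X) ⊤) (K := K) 0 N i (by omega) hlo hhi (2 * (i : ℤ))
    (fun p hp hp' => ⟨hv p hp (by omega) (by omega) _ (Or.inl rfl), hv p hp (by omega) (by omega) _ (Or.inr (Or.inl rfl))⟩)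
    (fun p hp hp' => ⟨hv p (by omega) hp' (by omega) _ (Or.inl rfl), hv p (by omega) hp' (by omega) _ (Or.inr (Or.inr rfl))⟩)
  obtain ⟨θ₁, hθ₁⟩ := exists_single_equiv X (e i) (i : ℤ) (2 * (i : ℤ)) i (by omega)
  refine ⟨((AddEquiv.ofBijective _ h1).symm.trans (AddEquiv.ofBijective _ h2)).trans θ₁, fun φ s hs x => ?_⟩
  obtain ⟨y, rfl⟩ := h1.surjective x
  have hy : E1Deg.HTmap _ φ (2 * (i : ℤ)) (E1Deg.HTmap _ (E1Deg.sigmaGEι K i) (2 * (i : ℤ)) y) =
      E1Deg.HTmap _ (E1Deg.sigmaGEι K i) (2 * (i : ℤ)) (E1Deg.HTmap _ (HomologicalComplex.stupidTruncMap φ (E1Deg.emb i)) (2 * (i : ℤ)) y) := by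
    rw [← E1Deg.HTmap_comp, ← E1Deg.HTmap_comp, trunc_comp_ι]
  simp only [AddEquiv.trans_apply]
  rw [hy, ← hθ₁ (φ.f (i : ℤ)) s hs]
  have h3 : ∀ z, (AddEquiv.ofBijective _ h1).symm (E1Deg.HTmap _ (E1Deg.sigmaGEι K i) (2 * (i : ℤ)) z) = z := fun z =>
    (AddEquiv.ofBijective _ h1).symm_apply_apply z
  rw [h3, h3]
  show θ₁ (E1Deg.HTmap _ (E1Deg.sigmaGEπ K i) _ _) = θ₁ (E1Deg.HTmap _ _ _ (E1Deg.HTmap _ (E1Deg.sigmaGEπ K i) _ y))
  rw [← E1Deg.HTmap_comp, ← E1Deg.HTmap_comp, trunc_comp_π]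

end Groth.Agent.Hyper5
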