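import Groth.Prelude.Def_DeRham
import Groth.Prelude.Def_DeRham2
import Groth.Agent.Hyper5.Acyclic
import Groth.Agent.Hyper5.Scheme
import Groth.Agent.Hyper5.QCohExt
import Groth.Agent.Hyper5.ExtSemi
import Groth.Agent.DR15.Basic
import Groth.Agent.MorProj.OmegaAffine
import Groth.Agent.Coherent.SchemeCoh

/-!
# De Rham cohomology of an affine scheme
-/

set_option autoImplicit false
set_option linter.style.haveILetI false
set_option backward.isDefEq.respectTransparency.types false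
set_option maxHeartbeats 1000000

universe w u

open CategoryTheory CategoryTheory.Limits AlgebraicGeometry TopologicalSpace Opposite exteriorPower
open Groth.Agent.Coherent

namespace Groth.Agent.Hyper5

variable (R A : Type u) [CommRing R] [CommRing A] [Algebra R A]

local notation "Xaff" => Spec (CommRingCat.of A)
local notation "Ω₁" => Omega.sheaf (Spec.map (CommRingCat.ofHom (algebraMap R A)))

variable (D : DeRhamSh.OmegaCx (Spec.map (CommRingCat.ofHom (algebraMap R A))))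

/-- The comparison of forms with the sections of the terms. -/
theorem exists_formsEquiv (p : ℕ) :
    ∃ E : ↥(⋀[A]^p (Ω[A⁄R])) ≃+ Γ(D.term p, (⊤ : (Spec (CommRingCat.of A)).Opens)), ∀ (b₀ : A) (b : Fin p → A),
      E (DeRham.gen (KaehlerDifferential.D R A) p b₀ b) = (D.loc p ⟨⊤, isAffineOpen_top _⟩).symm (OmAff.toΓ A b₀ •
        ιMulti _ p (fun i => (OmegaSh.dOmega (Spec.map (CommRingCat.ofHom (algebraMap R A)))).app ⊤ (OmAff.toΓ A (b i)))) := by
  letI : Algebra A Γ(Xaff, (⊤ : (Spec (CommRingCat.of A)).Opens)) := (OmAff.toΓ A).toAlgebra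
  letI : Module A Γ(Ω₁, (⊤ : (Spec (CommRingCat.of A)).Opens)) := Module.compHom _ (OmAff.toΓ A)
  haveI : IsScalarTower A Γ(Xaff, (⊤ : (Spec (CommRingCat.of A)).Opens)) Γ(Ω₁, (⊤ : (Spec (CommRingCat.of A)).Opens)) :=
    IsScalarTower.of_algebraMap_smul fun _ _ => rfl
  let θ : Ω[A⁄R] →ₗ[A] Γ(Ω₁, (⊤ : (Spec (CommRingCat.of A)).Opens)) :=
    { toFun := OmAff.toSpec R A
      map_add' := map_add _
      map_smul' := fun a x => (OmAff.toSpec R A).map_smulₛₗ a x }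
  have hA : Function.Bijective (algebraMap A Γ(Xaff, (⊤ : (Spec (CommRingCat.of A)).Opens))) :=
    (Scheme.ΓSpecIso (CommRingCat.of A)).commRingCatIsoToRingEquiv.symm.bijective
  obtain ⟨g, hg, hgι⟩ := exists_extPow_bijective hA θ (MorProj.bijective_toSpec R A) p
  let L := (D.loc p ⟨(⊤ : (Spec (CommRingCat.of A)).Opens), isAffineOpen_top _⟩).symm
  refine ⟨(AddEquiv.ofBijective g.toAddMonoidHom hg).trans L.toAddEquiv, fun b₀ b => ?_⟩
  show L (g (b₀ • ιMulti A p fun i => KaehlerDifferential.D R A (b i))) = _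
  rw [map_smul, hgι, ← algebraMap_smul Γ(Xaff, (⊤ : (Spec (CommRingCat.of A)).Opens)) b₀]
  refine congrArg L (congrArg (OmAff.toΓ A b₀ • ·) (congrArg (ιMulti _ p) (funext fun i => ?_)))
  exact OmAff.toSpec_D R A (b i)

variable {R A}

theorem exists_formsEquiv_comm
    {d : ∀ p : ℕ, ↥(⋀[A]^p (Ω[A⁄R])) →ₗ[R] ↥(⋀[A]^(p + 1) (Ω[A⁄R]))}
    (hd : DeRham.IsDiff (KaehlerDifferential.D R A) d) :
    ∃ E : ∀ p : ℕ, ↥(⋀[A]^p (Ω[A⁄R])) ≃+ (D.K.X p).obj.obj (op (⊤ : (Spec (CommRingCat.of A)).Opens)),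
      ∀ p x, E (p + 1) (d p x) = (D.K.d p (p + 1)).hom.app (op ⊤) (E p x) := by
  choose E hE using exists_formsEquiv R A D
  let I : ∀ p, Γ(D.term p, (⊤ : (Spec (CommRingCat.of A)).Opens)) ≃+
      (D.K.X p).obj.obj (op (⊤ : (Spec (CommRingCat.of A)).Opens)) := fun p =>
    (((sheafToPresheaf _ AddCommGrpCat.{u}) ⋙ (evaluation _ _).obj (op (⊤ : (Spec (CommRingCat.of A)).Opens))).mapIso
      (D.iso p).symm).addCommGroupIsoToAddEquiv
  refine ⟨fun p => (E p).trans (I p), fun p x => ?_⟩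
  refine DFunLike.congr_fun (DR15.ext_of_gen (KaehlerDifferential.span_range_derivation R A)
    ((((E (p + 1)).trans (I (p + 1))).toAddMonoidHom).comp (d p).toAddMonoidHom)
    (((D.K.d p (p + 1)).hom.app (op ⊤)).hom.comp (((E p).trans (I p)).toAddMonoidHom)) fun b₀ b => ?_) x
  show I (p + 1) (E (p + 1) (d p _)) = (D.K.d p (p + 1)).hom.app (op ⊤) (I p (E p _))
  rw [hd.1, hE]
  have h1 : ιMulti A (p + 1) (Fin.cons (KaehlerDifferential.D R A b₀) fun i => KaehlerDifferential.D R A (b i)) =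
      DeRham.gen (KaehlerDifferential.D R A) (p + 1) 1 (Fin.cons (α := fun _ => A) b₀ b) := by
    rw [DeRham.gen, one_smul]
    congr 1
    funext i
    refine Fin.cases ?_ (fun i => ?_) i <;> simp
  rw [h1, hE, map_one, one_smul]
  refine Eq.trans ?_ (D.rule p ⟨⊤, isAffineOpen_top _⟩ (OmAff.toΓ A b₀) (fun i => OmAff.toΓ A (b i))).symm
  refine congrArg (I (p + 1)) (congrArg _ (congrArg (ιMulti _ (p + 1)) (funext fun i => ?_)))
  refine Fin.cases ?_ (fun i => ?_) i <;> simp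

theorem nonempty_H_equiv
    {d : ∀ p : ℕ, ↥(⋀[A]^p (Ω[A⁄R])) →ₗ[R] ↥(⋀[A]^(p + 1) (Ω[A⁄R]))}
    (hd : DeRham.IsDiff (KaehlerDifferential.D R A) d) (n : ℕ)
    {H : Type*} [AddCommGroup H] (φ : DeRham.cocycles d n →+ H) (hs : Function.Surjective φ)
    (hk : ∀ x, φ x = 0 ↔ (x : ↥(⋀[A]^n (Ω[A⁄R]))) ∈ DeRham.coboundaries d n) :
    Nonempty (H ≃+ ↑(DeRham.H hd n)) := by
  let j := (ComplexShape.up ℕ).prev n
  let C := DeRham.cx hd
  have hker : LinearMap.ker ((C.sc' j n (n + 1)).g.hom) = DeRham.cocycles d n := by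
    show LinearMap.ker ((C.d n (n + 1)).hom) = _
    simp [C, DeRham.cx, DeRham.cocycles]
    rfl
  have hrange : LinearMap.range ((C.sc' j n (n + 1)).f.hom) = DeRham.coboundaries d n := by
    show LinearMap.range ((C.d j n).hom) = _
    rcases n with _ | m
    · rw [show C.d j 0 = 0 from C.shape _ _ (by simp [j])]
      simp [DeRham.coboundaries]
      rfl
    · rw [show j = m by simp [j]]
      simp [C, DeRham.cx, DeRham.coboundaries]
      rfl
  let S := C.sc' j n (n + 1)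
  let q : DeRham.cocycles d n →+ S.moduleCatLeftHomologyData.H :=
    ((LinearMap.range S.moduleCatToCycles).mkQ.toAddMonoidHom).comp (LinearEquiv.ofEq _ _ hker.symm).toAddEquiv.toAddMonoidHom
  have hqs : Function.Surjective q := (Submodule.mkQ_surjective _).comp (LinearEquiv.ofEq _ _ hker.symm).surjective
  have hqk : ∀ x, q x = 0 ↔ (x : ↥(⋀[A]^n (Ω[A⁄R]))) ∈ DeRham.coboundaries d n := fun x => by
    refine (Submodule.Quotient.mk_eq_zero _).trans (Iff.trans ?_ (SetLike.ext_iff.1 hrange _))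
    exact ⟨fun ⟨y, h⟩ => ⟨y, congrArg Subtype.val h⟩, fun ⟨y, h⟩ => ⟨y, Subtype.ext h⟩⟩
  have hkk : φ.ker = q.ker := AddSubgroup.ext fun x => by
    rw [AddMonoidHom.mem_ker, AddMonoidHom.mem_ker, hk, hqk]
  exact ⟨((QuotientAddGroup.quotientKerEquivOfSurjective φ hs).symm.trans
    (QuotientAddGroup.quotientAddEquivOfEq hkk)).trans ((QuotientAddGroup.quotientKerEquivOfSurjective q hqs).trans
      ((C.homologyIsoSc' j n (n + 1) rfl (by simp)).trans S.moduleCatHomologyIso).toLinearEquiv.symm.toAddEquiv)⟩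

variable [HasDerivedCategory.{w} (Sheaf (Opens.grothendieckTopology ↥(Spec (CommRingCat.of A))) AddCommGrpCat.{u})]

theorem nonempty_HdR_equiv
    {d : ∀ p : ℕ, ↥(⋀[A]^p (Ω[A⁄R])) →ₗ[R] ↥(⋀[A]^(p + 1) (Ω[A⁄R]))}
    (hd : DeRham.IsDiff (KaehlerDifferential.D R A) d) (n : ℕ) :
    Nonempty (DeRhamSh.HdR D (n : ℤ) ≃+ ↑(DeRham.H hd n)) := by
  obtain ⟨E, hE⟩ := exists_formsEquiv_comm D hd
  let T := CohCx.freeSheaf (Opens.grothendieckTopology ↥(Spec (CommRingCat.of A))) (⊤ : (Spec (CommRingCat.of A)).Opens)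
  let x : ∀ p : ℕ, D.KZ.X (p : ℤ) ≅ D.K.X p := fun p =>
    D.K.extendXIso ComplexShape.embeddingUpNat (ComplexShape.embeddingUpNat_f p)
  have hlow : ∀ m, m < 0 → IsZero (D.KZ.X m) := fun m hm =>
    D.K.isZero_extend_X ComplexShape.embeddingUpNat m fun p hp => by
      simp only [ComplexShape.embeddingUpNat_f] at hp
      omega
  have hac : ∀ (p : ℤ) (m : ℕ), Subsingleton (Abelian.Ext.{u} T (D.KZ.X p) (m + 1)) := fun p m => by
    by_cases hp : p < 0
    · refine subsingleton_of_forall_eq 0 fun e => ?_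
      rw [← Abelian.Ext.comp_mk₀_id e, (IsZero.iff_id_eq_zero _).1 (hlow p hp), Abelian.Ext.mk₀_zero, Abelian.Ext.comp_zero]
    obtain ⟨p, rfl⟩ := Int.eq_ofNat_of_zero_le (show 0 ≤ p by omega)
    haveI : Coh.IsQCoh Ω₁ := MorProj.isQCoh_omega _
    haveI := isQCoh_of_isExtPow (D.isExtPow p)
    haveI := Coherent.subsingleton_HH_of_isAffine (D.term p) (m + 1) m.succ_pos
    exact ((E1Deg.extCongrRight.{u} T (x p ≪≫ D.iso p) (m + 1)).trans (E1Deg.extCongrLeft.{u} (E1Deg.freeSheafIsoConstant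
      (Opens.grothendieckTopology ↥(Spec (CommRingCat.of A))) (CategoryTheory.Limits.isTerminalTop : IsTerminal (⊤ : (Spec (CommRingCat.of A)).Opens))) (Coh.toAb (D.term p)) (m + 1))).toEquiv.subsingleton
  obtain ⟨hsurj, hker⟩ := cocycle_exact T D.KZ (n : ℤ) 0 hlow hac
  let Hp : ∀ p : ℕ, (T ⟶ D.K.X p) ≃+ ↥(⋀[A]^p (Ω[A⁄R])) := fun p =>
    (freeShEquiv (X := (Spec (CommRingCat.of A)).toTopCat) ⊤ (D.K.X p)).trans (E p).symm
  have hHp : ∀ p (ψ : T ⟶ D.K.X p), Hp (p + 1) (ψ ≫ D.K.d p (p + 1)) = d p (Hp p ψ) := fun p ψ => by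
    refine (E (p + 1)).injective ?_
    simp only [Hp, AddEquiv.trans_apply, AddEquiv.apply_symm_apply, hE]
    exact freeShEquiv_comp (X := (Spec (CommRingCat.of A)).toTopCat) ⊤ (D.K.d p (p + 1)) ψ
  have hd1 : D.KZ.d (n : ℤ) ((n : ℤ) + 1) = (x n).hom ≫ D.K.d n (n + 1) ≫ (D.K.extendXIso ComplexShape.embeddingUpNat
      (show ComplexShape.embeddingUpNat.f (n + 1) = (n : ℤ) + 1 by simp)).inv :=
    D.K.extend_d_eq ComplexShape.embeddingUpNat _ _
  let toK : DeRham.cocycles d n →+ (T ⟶ kernel (D.KZ.d (n : ℤ) ((n : ℤ) + 1))) :=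
    AddMonoidHom.mk' (fun y => kernel.lift _ ((Hp n).symm y ≫ (x n).inv) (by
      rw [hd1, Category.assoc, Iso.inv_hom_id_assoc, ← Category.assoc]
      have h0 : (Hp n).symm (y : ↥(⋀[A]^n (Ω[A⁄R]))) ≫ D.K.d n (n + 1) = 0 := by
        apply (Hp (n + 1)).injective
        rw [hHp, AddEquiv.apply_symm_apply, map_zero]
        exact y.2
      rw [h0, zero_comp])) fun a b => by
        rw [← cancel_mono (kernel.ι _)]
        simp [Preadditive.add_comp]
  have htoK : Function.Surjective toK := fun z => by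
    refine ⟨⟨Hp n (z ≫ kernel.ι _ ≫ (x n).hom), ?_⟩, ?_⟩
    · show d n _ = 0
      rw [← hHp]
      have h0 : kernel.ι (D.KZ.d (n : ℤ) ((n : ℤ) + 1)) ≫ ((x n).hom ≫ D.K.d n (n + 1) ≫ (D.K.extendXIso ComplexShape.embeddingUpNat
          (show ComplexShape.embeddingUpNat.f (n + 1) = (n : ℤ) + 1 by simp)).inv) = 0 :=
        (congrArg (kernel.ι (D.KZ.d (n : ℤ) ((n : ℤ) + 1)) ≫ ·) hd1).symm.trans (kernel.condition _)
      have h1 : kernel.ι (D.KZ.d (n : ℤ) ((n : ℤ) + 1)) ≫ (x n).hom ≫ D.K.d n (n + 1) = 0 := by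
        rw [← cancel_mono (D.K.extendXIso ComplexShape.embeddingUpNat
          (show ComplexShape.embeddingUpNat.f (n + 1) = (n : ℤ) + 1 by simp)).inv, zero_comp]
        simpa using h0
      rw [Category.assoc, Category.assoc, h1, comp_zero, map_zero]
    · rw [← cancel_mono (kernel.ι _)]
      simp [toK]
  refine nonempty_H_equiv hd n ((cocycleClass.{w, u} T D.KZ (n : ℤ)).comp toK) (hsurj.comp htoK) fun y => ?_
  rw [AddMonoidHom.comp_apply, hker]
  simp only [toK, AddMonoidHom.mk'_apply, kernel.lift_ι]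
  rcases n with _ | m
  · rw [DeRham.coboundaries, Submodule.mem_bot]
    refine ⟨fun ⟨ψ, hψ⟩ => ?_, fun h => ⟨0, by rw [zero_comp, h, map_zero, zero_comp]⟩⟩
    rw [(hlow ((0 : ℕ) - 1 : ℤ) (by simp)).eq_of_tgt ψ 0, zero_comp] at hψ
    have h2 : (Hp 0).symm (y : ↥(⋀[A]^0 (Ω[A⁄R]))) = 0 := by
      rw [← cancel_mono (x 0).inv, zero_comp]
      exact hψ.symm
    rw [← AddEquiv.apply_symm_apply (Hp 0) (y : ↥(⋀[A]^0 (Ω[A⁄R]))), h2, map_zero]
  · rw [DeRham.coboundaries, LinearMap.mem_range]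
    let xm : D.KZ.X (((m + 1 : ℕ) : ℤ) - 1) ≅ D.K.X m :=
      D.K.extendXIso ComplexShape.embeddingUpNat (by simp)
    have hd0 : D.KZ.d (((m + 1 : ℕ) : ℤ) - 1) ((m + 1 : ℕ) : ℤ) = xm.hom ≫ D.K.d m (m + 1) ≫ (x (m + 1)).inv :=
      D.K.extend_d_eq ComplexShape.embeddingUpNat _ _
    refine ⟨fun ⟨ψ, hψ⟩ => ⟨Hp m (ψ ≫ xm.hom), ?_⟩, fun ⟨z, hz⟩ => ⟨(Hp m).symm z ≫ xm.inv, ?_⟩⟩
    · rw [← hHp, ← AddEquiv.apply_symm_apply (Hp (m + 1)) (y : ↥(⋀[A]^(m + 1) (Ω[A⁄R])))]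
      congr 1
      rw [← cancel_mono (x (m + 1)).inv]
      rw [hd0] at hψ
      simpa using hψ
    · rw [hd0, Category.assoc, Iso.inv_hom_id_assoc, ← Category.assoc]
      congr 1
      apply (Hp (m + 1)).injective
      rw [hHp, AddEquiv.apply_symm_apply, AddEquiv.apply_symm_apply, hz]

end Groth.Agent.Hyper5
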