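import Groth.Agent.Hyper5.AffineDR
import Groth.Agent.DR15.CxMap
import Groth.Agent.DR15.Poincare

/-!
# De Rham cohomology of affine space in characteristic zero
-/

set_option autoImplicit false
set_option linter.style.haveILetI false
set_option backward.isDefEq.respectTransparency.types false
set_option maxHeartbeats 1000000

universe w u

open exteriorPower Polynomial

namespace Groth.Agent.Hyper5

variable (k : Type u) [Field k]

/-- The de Rham complex of `A` resolves the constants. -/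
def IsAcyclicForms (A : Type u) [CommRing A] [Algebra k A] : Prop :=
  ∀ (d : ∀ p : ℕ, ↥(⋀[A]^p (Ω[A⁄k])) →ₗ[k] ↥(⋀[A]^(p + 1) (Ω[A⁄k]))),
    DeRham.IsDiff (KaehlerDifferential.D k A) d →
      (∀ i, DeRham.cocycles d (i + 1) ≤ DeRham.coboundaries d (i + 1)) ∧
        ∀ x ∈ DeRham.cocycles d 0, ∃ c : k, x = DeRham.gen (KaehlerDifferential.D k A) 0 (algebraMap k A c) ![]

theorem isAcyclicForms_polynomial [CharZero k] (A : Type u) [CommRing A] [Algebra k A] (h : IsAcyclicForms k A) :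
    IsAcyclicForms k A[X] := by
  intro d' hd'
  obtain ⟨d, hd⟩ : ∃ d, DeRham.IsDiff (KaehlerDifferential.D k A) d := ⟨_, DR15.kaehler_isDiff⟩
  obtain ⟨ψ, hψ⟩ := DR15.exists_isCxMap (R := k) (S := k) (A := A) (B := A[X])
  have hcomm := DR15.cxMap_comm (KaehlerDifferential.span_range_derivation k A) hd.1 hd'.1 hψ
  have hq := DR15.line_poincare d hd d' hd' ψ hψ hcomm
  obtain ⟨h1, h2⟩ := h d hd
  refine ⟨fun i y hy => ?_, fun y hy => ?_⟩
  · obtain ⟨x, hx, hxy⟩ := (hq (i + 1)).1 y hy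
    obtain ⟨z, rfl⟩ := h1 i hx
    rw [← sub_add_cancel y (ψ (i + 1) (d i z))]
    exact add_mem hxy ⟨ψ i z, (hcomm i z).symm⟩
  · obtain ⟨x, hx, hxy⟩ := (hq 0).1 y hy
    obtain ⟨c, rfl⟩ := h2 x hx
    refine ⟨c, ?_⟩
    have : y - ψ 0 (DeRham.gen (KaehlerDifferential.D k A) 0 (algebraMap k A c) ![]) = 0 := by
      simpa [DeRham.coboundaries] using hxy
    rw [sub_eq_zero.1 this, hψ, ← IsScalarTower.algebraMap_apply k A A[X] c]
    congr 1
    funext i
    exact i.elim0

theorem isAcyclicForms_of_equiv (A B : Type u) [CommRing A] [Algebra k A] [CommRing B] [Algebra k B]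
    (e : A ≃ₐ[k] B) (h : IsAcyclicForms k A) : IsAcyclicForms k B := by
  intro d' hd'
  obtain ⟨d, hd⟩ : ∃ d, DeRham.IsDiff (KaehlerDifferential.D k A) d := ⟨_, DR15.kaehler_isDiff⟩
  obtain ⟨ψ, hψ⟩ : ∃ ψ : ∀ p : ℕ, ↥(⋀[A]^p (Ω[A⁄k])) →+ ↥(⋀[B]^p (Ω[B⁄k])),
      DeRham.IsCxMap (KaehlerDifferential.D k A) (KaehlerDifferential.D k B) (e : A →+* B) ψ := by
    letI := (e : A →+* B).toAlgebra
    haveI : IsScalarTower k A B := IsScalarTower.of_algebraMap_eq fun c => (e.commutes c).symm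
    exact DR15.exists_isCxMap (R := k) (S := k)
  obtain ⟨φ, hφ⟩ : ∃ φ : ∀ p : ℕ, ↥(⋀[B]^p (Ω[B⁄k])) →+ ↥(⋀[A]^p (Ω[A⁄k])),
      DeRham.IsCxMap (KaehlerDifferential.D k B) (KaehlerDifferential.D k A) (e.symm : B →+* A) φ := by
    letI := (e.symm : B →+* A).toAlgebra
    haveI : IsScalarTower k B A := IsScalarTower.of_algebraMap_eq fun c => (e.symm.commutes c).symm
    exact DR15.exists_isCxMap (R := k) (S := k)
  have hψc : ∀ p x, ψ (p + 1) (d p x) = d' p (ψ p x) := by
    letI := (e : A →+* B).toAlgebra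
    exact DR15.cxMap_comm (KaehlerDifferential.span_range_derivation k A) hd.1 hd'.1 hψ
  have hφc : ∀ p x, φ (p + 1) (d' p x) = d p (φ p x) := by
    letI := (e.symm : B →+* A).toAlgebra
    exact DR15.cxMap_comm (KaehlerDifferential.span_range_derivation k B) hd'.1 hd.1 hφ
  have hinv : ∀ p y, ψ p (φ p y) = y := fun p y =>
    DFunLike.congr_fun (DR15.ext_of_gen (KaehlerDifferential.span_range_derivation k B) ((ψ p).comp (φ p))
      (AddMonoidHom.id _) fun b₀ b => by
        show ψ p (φ p _) = _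
        rw [hφ, hψ]
        simp) y
  obtain ⟨h1, h2⟩ := h d hd
  refine ⟨fun i y hy => ?_, fun y hy => ?_⟩
  · have hx : φ (i + 1) y ∈ DeRham.cocycles d (i + 1) := by
      show d (i + 1) _ = 0
      rw [← hφc, show d' (i + 1) y = 0 from hy, map_zero]
    obtain ⟨z, hz⟩ := h1 i hx
    exact ⟨ψ i z, by rw [← hψc, hz, hinv]⟩
  · have hx : φ 0 y ∈ DeRham.cocycles d 0 := by
      show d 0 _ = 0
      rw [← hφc, show d' 0 y = 0 from hy, map_zero]
    obtain ⟨c, hc⟩ := h2 _ hx
    refine ⟨c, ?_⟩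
    rw [← hinv 0 y, hc, hψ]
    simp only [RingHom.coe_coe, AlgEquiv.commutes]
    congr 1
    funext i
    exact i.elim0

theorem isAcyclicForms_self : IsAcyclicForms k k := by
  intro d _
  have hD : ∀ a : k, KaehlerDifferential.D k k a = 0 := fun a => (KaehlerDifferential.D k k).map_algebraMap a
  refine ⟨fun i y _ => ?_, fun x _ => ?_⟩
  · have : y = 0 := DFunLike.congr_fun (DR15.ext_of_gen (KaehlerDifferential.span_range_derivation k k)
      (AddMonoidHom.id ↥(⋀[k]^(i + 1) (Ω[k⁄k]))) 0 fun b₀ b => by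
        show b₀ • ιMulti k (i + 1) (fun j => KaehlerDifferential.D k k (b j)) = 0
        rw [(ιMulti k (i + 1) (M := Ω[k⁄k])).map_coord_zero 0 (hD _), smul_zero]) y
    rw [this]
    exact zero_mem _
  · refine ⟨exteriorPower.zeroEquiv k (Ω[k⁄k]) x, (exteriorPower.zeroEquiv k (Ω[k⁄k])).injective ?_⟩
    rw [DeRham.gen, map_smul, exteriorPower.zeroEquiv_ιMulti, smul_eq_mul, mul_one, Algebra.algebraMap_self,
      RingHom.id_apply]

theorem isAcyclicForms_mvPolynomial [CharZero k] : ∀ n : ℕ, IsAcyclicForms k (MvPolynomial (Fin n) k)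
  | 0 => isAcyclicForms_of_equiv k k _ (MvPolynomial.isEmptyAlgEquiv k (Fin 0)).symm (isAcyclicForms_self k)
  | n + 1 => isAcyclicForms_of_equiv k _ _ (MvPolynomial.finSuccEquiv k n).symm
      (isAcyclicForms_polynomial k _ (isAcyclicForms_mvPolynomial n))

end Groth.Agent.Hyper5
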