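import Groth.Prelude.Def_DeRham2
import Groth.Agent.Hyper5.Scheme
import Groth.Agent.Hyper5.Smooth
import Groth.Agent.GVan16.Main
import Groth.Agent.Coherent.SchemeCoh

/-!
# Vanishing of de Rham cohomology of smooth schemes
-/

set_option autoImplicit false
set_option linter.style.haveILetI false
set_option backward.isDefEq.respectTransparency.types false
set_option maxHeartbeats 1000000

universe w u

open CategoryTheory CategoryTheory.Limits AlgebraicGeometry TopologicalSpace
open Groth.Agent.CAlgH3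

namespace Groth.Agent.Hyper5

variable {k : Type u} [Field k] {X : Scheme.{u}} (f : X ⟶ Spec (CommRingCat.of k)) [Smooth f] [QuasiSeparated f]
  (n : ℕ) (hn : topologicalKrullDim ↥X ≤ n) (D : DeRhamSh.OmegaCx f)
  [HasDerivedCategory.{w} (Sheaf (Opens.grothendieckTopology ↥X) AddCommGrpCat.{u})]

include hn in
theorem isQCoh_term (p : ℕ) : Coh.IsQCoh (D.term p) :=
  CAlgH3.LocFreeFactor.isQCoh_of_finLocFree
    (WedgeDual5.isFinLocFree_of_isExtPow (isFinLocFree_omega f n hn) (D.isExtPow p))

include hn in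
theorem subsingleton_HdR_smooth (c : ℕ)
    (hc : ∀ (F : X.Modules), Coh.IsQCoh F → ∀ q : ℕ, c ≤ q → Subsingleton (Coh.HH X F q))
    (i : ℤ) (hi : (n : ℤ) + c ≤ i) : Subsingleton (DeRhamSh.HdR D i) := by
  let e : ∀ p : ℕ, D.KZ.X (p : ℤ) ≅ Coh.toAb (D.term p) := fun p =>
    D.K.extendXIso ComplexShape.embeddingUpNat (ComplexShape.embeddingUpNat_f p) ≪≫ D.iso p
  refine subsingleton_HT (CohCx.freeSheaf (Opens.grothendieckTopology X) ⊤) (K := D.KZ) 0 ((n + 1 : ℕ) : ℤ)
    (fun m hm => D.K.isZero_extend_X ComplexShape.embeddingUpNat m fun p hp => by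
      simp only [ComplexShape.embeddingUpNat_f] at hp
      omega)
    (fun m hm => by
      obtain ⟨p, rfl⟩ : ∃ p : ℕ, m = p := ⟨m.toNat, by omega⟩
      exact ((SheafOfModules.toSheaf X.ringCatSheaf).map_isZero
        (isZero_extPow f n hn (by omega) (D.isExtPow p))).of_iso (e p))
    i fun p hp hpN => ?_
  obtain ⟨p, rfl⟩ := Int.eq_ofNat_of_zero_le hp
  exact subsingleton_single_sheaf X (e p) _ i fun q hq => hc _ (isQCoh_term f n hn D p) q (by omega)

end Groth.Agent.Hyper5
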