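import Groth.Prelude.Def_KLinDR
import Groth.Prelude.Def_DeRham2
import Groth.Agent.Hyper5.Scheme
import Groth.Agent.Hyper5.QCohExt
import Groth.Agent.CAlgH3.FittOmega
import Groth.Agent.Coherent.ProperFinite
import Groth.Agent.EulerLib.Additive

/-!
# Finiteness of de Rham cohomology of a proper scheme
-/

set_option autoImplicit false
set_option linter.style.haveILetI false
set_option backward.isDefEq.respectTransparency.types false
set_option maxHeartbeats 1000000

universe w u' v u

open CategoryTheory CategoryTheory.Limits AlgebraicGeometry TopologicalSpace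
open Groth.Agent.Coherent Groth.Agent.EulerLib

namespace Groth.Agent.Hyper5

section Generic

variable {A : Type u} [Category.{v} A] [Abelian A] {R : Type u'} [CommRing R]

/-- Stupid truncation on endomorphisms. -/
noncomputable def truncEnd (K : CochainComplex A ℤ) (i : ℤ) : End K →+* End (E1Deg.sigmaGE K i) where
  toFun f := HomologicalComplex.stupidTruncMap f (E1Deg.emb i)
  map_one' := HomologicalComplex.stupidTruncMap_id K (E1Deg.emb i)
  map_mul' f g := HomologicalComplex.stupidTruncMap_comp g f (E1Deg.emb i)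
  map_zero' := by
    rw [HomologicalComplex.stupidTruncMap, show HomologicalComplex.restrictionMap (0 : K ⟶ K) (E1Deg.emb i) = 0 from
      HomologicalComplex.hom_ext _ _ fun _ => rfl]
    exact HomologicalComplex.extendMap_zero _ _ _
  map_add' f g := by
    rw [HomologicalComplex.stupidTruncMap, show HomologicalComplex.restrictionMap (f + g : K ⟶ K) (E1Deg.emb i) =
      HomologicalComplex.restrictionMap f (E1Deg.emb i) + HomologicalComplex.restrictionMap g (E1Deg.emb i) from
      HomologicalComplex.hom_ext _ _ fun _ => rfl]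
    exact HomologicalComplex.extendMap_add _ _ _

/-- An endomorphism of a complex on the single piece in degree `i`. -/
noncomputable def singleEnd (K : CochainComplex A ℤ) (i : ℤ) :
    End K →+* End ((HomologicalComplex.single A (ComplexShape.up ℤ) i).obj (K.X i)) where
  toFun f := (HomologicalComplex.single A (ComplexShape.up ℤ) i).map ((f : K ⟶ K).f i)
  map_one' := by
    show (HomologicalComplex.single A (ComplexShape.up ℤ) i).map (𝟙 (K.X i)) = 𝟙 _
    exact CategoryTheory.Functor.map_id _ _
  map_mul' f g := by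
    show (HomologicalComplex.single A (ComplexShape.up ℤ) i).map ((g : K ⟶ K).f i ≫ (f : K ⟶ K).f i) = _ ≫ _
    exact Functor.map_comp _ _ _
  map_zero' := (HomologicalComplex.single A (ComplexShape.up ℤ) i).map_zero _ _
  map_add' f g := (HomologicalComplex.single A (ComplexShape.up ℤ) i).map_add

variable [HasDerivedCategory.{w} A] (T : A)

theorem subsingleton_of_strictlyGE (K : CochainComplex A ℤ) (a n : ℤ) (h : n < a) [K.IsStrictlyGE a] :
    Subsingleton (E1Deg.HT T K n) := by
  haveI h2 : (DerivedCategory.Q.obj K).IsGE a := inferInstance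
  haveI : ((shiftFunctor (DerivedCategory A) n).obj (DerivedCategory.Q.obj K)).IsGE (a - n) :=
    DerivedCategory.TStructure.t.isGE_shift _ a n (a - n) (by omega)
  exact ⟨fun f g => (DerivedCategory.TStructure.t.zero f 0 (a - n) (by omega)).trans
    (DerivedCategory.TStructure.t.zero g 0 (a - n) (by omega)).symm⟩

theorem isStrictlyGE_sigma (K : CochainComplex A ℤ) (i : ℤ) : (E1Deg.sigmaGE K i).IsStrictlyGE i := by
  rw [CochainComplex.isStrictlyGE_iff]
  intro m hm
  exact K.isZero_stupidTrunc_X _ m fun j hj => by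
    simp only [ComplexShape.embeddingUpIntGE_f] at hj; omega

variable [IsNoetherianRing R] (K : CochainComplex A ℤ) (ρ : R →+* End K)

theorem finite_sigma (n : ℤ)
    (h : ∀ p : ℤ, Module.Finite R (KLinDR.HTρ T ((HomologicalComplex.single A (ComplexShape.up ℤ) p).obj (K.X p))
      ((singleEnd K p).comp ρ) n)) :
    ∀ (r : ℕ) (i : ℤ), n + 1 ≤ i + r → Module.Finite R (KLinDR.HTρ T (E1Deg.sigmaGE K i) ((truncEnd K i).comp ρ) n) := by
  intro r
  induction r with
  | zero =>
    intro i hi
    haveI := isStrictlyGE_sigma K i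
    haveI : Subsingleton (KLinDR.HTρ T (E1Deg.sigmaGE K i) ((truncEnd K i).comp ρ) n) :=
      subsingleton_of_strictlyGE T (E1Deg.sigmaGE K i) i n (by omega)
    infer_instance
  | succ r ih =>
    intro i hi
    haveI := ih (i + 1) (by omega)
    haveI := h i
    have c₁ : KLinDR.Commutes ((truncEnd K (i + 1)).comp ρ) ((truncEnd K i).comp ρ) (E1Deg.sigmaGEιSucc K i) := fun a => by
      refine HomologicalComplex.hom_ext _ _ fun m => ?_
      by_cases hm : ∃ j : ℕ, (E1Deg.emb (i + 1)).f j = m
      · obtain ⟨j, hj⟩ := hm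
        rw [← cancel_mono (K.stupidTruncXIso (E1Deg.emb i) (E1Deg.emb_f_succ i hj)).hom]
        simp only [HomologicalComplex.comp_f, Category.assoc, E1Deg.sigmaGEιSucc_f_eq K i hj]
        show (HomologicalComplex.stupidTruncMap (ρ a : K ⟶ K) _).f m ≫ _ =
          _ ≫ _ ≫ (HomologicalComplex.stupidTruncMap (ρ a : K ⟶ K) _).f m ≫ _
        simp
      · exact (K.isZero_stupidTrunc_X _ m (by simpa using hm)).eq_of_src _ _
    have c₂ : KLinDR.Commutes ((truncEnd K i).comp ρ) ((singleEnd K i).comp ρ) (E1Deg.sigmaGEπ K i) := fun a =>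
      trunc_comp_π (ρ a : K ⟶ K) i
    let f := KLinDR.HTρmap T (E1Deg.sigmaGEιSucc K i) c₁ n
    let g := KLinDR.HTρmap T (E1Deg.sigmaGEπ K i) c₂ n
    refine Module.Finite.of_exact (f := f) (g := g.rangeRestrict) ?_
      g.surjective_rangeRestrict
    intro x
    constructor
    · intro hx
      have hx' : g x = 0 := congrArg Subtype.val hx
      obtain ⟨y, hy⟩ := exists_lift T (seq_shortExact K i) n (KLinDR.HTρ.toHT x) hx'
      exact ⟨KLinDR.HTρ.toHT.symm y, hy⟩
    · rintro ⟨y, rfl⟩
      refine Subtype.ext ?_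
      show E1Deg.HTmap T (E1Deg.sigmaGEπ K i) n (E1Deg.HTmap T (E1Deg.sigmaGEιSucc K i) n (KLinDR.HTρ.toHT y)) = 0
      rw [← E1Deg.HTmap_comp, (seq K i).zero, E1Deg.HTmap_apply, Functor.map_zero, Functor.map_zero, comp_zero]

theorem finite_HT (a n : ℤ) (ha : ∀ m, m < a → IsZero (K.X m))
    (h : ∀ p : ℤ, Module.Finite R (KLinDR.HTρ T ((HomologicalComplex.single A (ComplexShape.up ℤ) p).obj (K.X p))
      ((singleEnd K p).comp ρ) n)) :
    Module.Finite R (KLinDR.HTρ T K ρ n) := by
  haveI := finite_sigma T K ρ n h (n + 1 - a).toNat a (by omega)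
  haveI := E1Deg.isIso_sigmaGEι K a ha
  have c : KLinDR.Commutes ((truncEnd K a).comp ρ) ρ (E1Deg.sigmaGEι K a) := fun r => trunc_comp_ι (ρ r : K ⟶ K) a
  refine Module.Finite.of_surjective (KLinDR.HTρmap T (E1Deg.sigmaGEι K a) c n) fun y =>
    ⟨KLinDR.HTρ.toHT.symm (E1Deg.HTmap T (inv (E1Deg.sigmaGEι K a)) n (KLinDR.HTρ.toHT y)), ?_⟩
  show E1Deg.HTmap T (E1Deg.sigmaGEι K a) n (E1Deg.HTmap T (inv (E1Deg.sigmaGEι K a)) n (KLinDR.HTρ.toHT y)) = KLinDR.HTρ.toHT y
  rw [← E1Deg.HTmap_comp, IsIso.inv_hom_id, E1Deg.HTmap_id]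

end Generic

section DeRham

variable {A : Type u} [CommRing A] [IsNoetherianRing A] {X : Scheme.{u}} (f : X ⟶ Spec (CommRingCat.of A)) [IsProper f]

theorem finite_HdR (D : DeRhamSh.OmegaCx f) (h : KLinDR.TermwiseLinear (Coh.toGlobal f) D.K D.term D.iso)
    [HasDerivedCategory.{w} (Sheaf (Opens.grothendieckTopology X) AddCommGrpCat.{u})] (n : ℤ) :
    Module.Finite A (KLinDR.HdR (Coh.toGlobal f) D h n) := by
  haveI : IsLocallyNoetherian X := LocallyOfFiniteType.isLocallyNoetherian f
  letI : X.Over (Spec (CommRingCat.of A)) := ⟨f⟩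
  have hΩ : Coh.IsCoh (Omega.sheaf f) := ⟨MorProj.isQCoh_omega f, CAlgH3.FittOmega.isFT_omega f⟩
  refine finite_HT _ D.KZ (KLinDR.scalar h) 0 n
    (fun m hm => D.K.isZero_extend_X ComplexShape.embeddingUpNat m fun p hp => by
      simp only [ComplexShape.embeddingUpNat_f] at hp
      omega) fun p => ?_
  by_cases hp : p < 0 ∨ n < p
  · haveI : Subsingleton (E1Deg.HT (CohCx.freeSheaf (Opens.grothendieckTopology X) ⊤)
        ((HomologicalComplex.single _ (ComplexShape.up ℤ) p).obj (D.KZ.X p)) n) := by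
      rcases hp with hp | hp
      · refine subsingleton_of_isZero _ ((HomologicalComplex.single _ (ComplexShape.up ℤ) p).map_isZero
          (D.K.isZero_extend_X ComplexShape.embeddingUpNat p fun q hq => by
            simp only [ComplexShape.embeddingUpNat_f] at hq
            omega)) n
      · exact subsingleton_single_of_lt _ _ p n hp
    haveI : Subsingleton (KLinDR.HTρ (CohCx.freeSheaf (Opens.grothendieckTopology X) ⊤)
        ((HomologicalComplex.single _ (ComplexShape.up ℤ) p).obj (D.KZ.X p))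
        ((singleEnd D.KZ p).comp (KLinDR.scalar h)) n) := this
    infer_instance
  · obtain ⟨p, rfl⟩ := Int.eq_ofNat_of_zero_le (show 0 ≤ p by omega)
    let e : D.KZ.X (p : ℤ) ≅ Coh.toAb (D.term p) :=
      D.K.extendXIso ComplexShape.embeddingUpNat (ComplexShape.embeddingUpNat_f p) ≪≫ D.iso p
    obtain ⟨θ, hθ⟩ := exists_single_equiv X e (p : ℤ) n (n - p).toNat (by omega)
    let l : KLinDR.HTρ (CohCx.freeSheaf (Opens.grothendieckTopology X) ⊤)
        ((HomologicalComplex.single _ (ComplexShape.up ℤ) (p : ℤ)).obj (D.KZ.X p))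
        ((singleEnd D.KZ p).comp (KLinDR.scalar h)) n ≃ₗ[A] Coh.HH X (D.term p) (n - p).toNat :=
      { KLinDR.HTρ.toHT.trans θ with
        map_smul' := fun a x => hθ ((KLinDR.scalar h a : D.KZ ⟶ _).f p) (Coh.smulAb (D.term p) (Coh.toGlobal f a)) (by
          rw [KLinDR.scalar_f h a p]
          simp [e, KLinDR.scalarEnd]) (KLinDR.HTρ.toHT x) }
    haveI : Module.Finite A (HA (Coherent.baseHom A X) (D.term p) (⊤ : X.Opens) (n - p).toNat) :=
      finCoh_of_isProper f (D.term p) (isCoh_of_isExtPow hΩ (D.isExtPow p)) (n - p).toNat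
    haveI : Module.Finite A (Coh.HH X (D.term p) (n - p).toNat) :=
      Module.Finite.equiv (HHBaseEquiv A (D.term p) (n - p).toNat).symm
    exact Module.Finite.equiv l.symm

end DeRham

end Groth.Agent.Hyper5
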