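import Groth.Prelude.Def_DeRham2
import Groth.Prelude.Def_KLinDR
import Groth.Agent.Hyper5.Scheme
import Groth.Agent.EulerPn5.Bott

/-!
# De Rham cohomology of projective space
-/

set_option autoImplicit false
set_option linter.style.haveILetI false
set_option backward.isDefEq.respectTransparency.types false
set_option maxHeartbeats 1000000

universe w u

open CategoryTheory CategoryTheory.Limits AlgebraicGeometry TopologicalSpace
open Groth.Agent.CAlgH3

namespace Groth.Agent.Hyper5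

variable {n : ℕ} {A : Type u} [CommRing A] [QuasiSeparated (CohB1.ProjSpace.toSpec n A)]
  (D : DeRhamSh.OmegaCx (CohB1.ProjSpace.toSpec n A))

/-- The terms of `D.KZ`. -/
noncomputable def kzIso (p : ℕ) : D.KZ.X (p : ℤ) ≅ Coh.toAb (D.term p) :=
  D.K.extendXIso ComplexShape.embeddingUpNat (ComplexShape.embeddingUpNat_f p) ≪≫ D.iso p

theorem isZero_lo (m : ℤ) (hm : m < 0) : IsZero (D.KZ.X m) :=
  D.K.isZero_extend_X ComplexShape.embeddingUpNat m fun p hp => by
    simp only [ComplexShape.embeddingUpNat_f] at hp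
    omega

theorem isZero_hi (m : ℤ) (hm : ((n + 1 : ℕ) : ℤ) ≤ m) : IsZero (D.KZ.X m) := by
  obtain ⟨p, rfl⟩ : ∃ p : ℕ, m = p := ⟨m.toNat, by omega⟩
  exact ((SheafOfModules.toSheaf (CohB1.ProjSpace n A).ringCatSheaf).map_isZero
    (EulerPn5.isZero_of_isExtPow EulerPn5.rank_omega (D.isExtPow p) (by omega))).of_iso (kzIso D p)

theorem subsingleton_term (p q : ℕ) (_ : p < n + 1) (h : p ≠ q) :
    Subsingleton (Coh.HH (CohB1.ProjSpace n A) (D.term p) q) := by
  obtain ⟨e⟩ := EulerPn5.nonempty_tensor_twist0 (D.term p)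
  exact ModCohSeq.V_of_iso e (EulerPn5.V_zero p (D.isExtPow p) q fun h' => h h'.symm)

theorem nonempty_term_equiv (p : ℕ) (hp : p ≤ n) :
    Nonempty (Coh.HH (CohB1.ProjSpace n A) (D.term p) p ≃ₗ[A] A) := by
  obtain ⟨e⟩ := EulerPn5.nonempty_tensor_twist0 (D.term p)
  obtain ⟨h⟩ := EulerPn5.nonempty_HH_diag p hp (D.isExtPow p)
  exact ⟨(EulerPn5.hhEquiv A e p).symm.trans h⟩

variable [HasDerivedCategory.{w} (Sheaf (Opens.grothendieckTopology ↥(CohB1.ProjSpace n A)) AddCommGrpCat.{u})]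

theorem subsingleton_HdR (m : ℤ) (hm : ∀ i : ℕ, i ≤ n → m ≠ 2 * (i : ℤ)) :
    Subsingleton (DeRhamSh.HdR D m) :=
  subsingleton_HT_of_diag D.KZ (n + 1) (isZero_lo D) (isZero_hi D) D.term (kzIso D) (subsingleton_term D) m
    fun p hp => hm p (by omega)

theorem nonempty_HdR_addEquiv (i : ℕ) (hi : i ≤ n) : Nonempty (DeRhamSh.HdR D (2 * (i : ℤ)) ≃+ A) := by
  obtain ⟨θ, -⟩ := exists_diag_equiv D.KZ (n + 1) (isZero_lo D) (isZero_hi D) D.term (kzIso D)
    (subsingleton_term D) i (by omega)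
  obtain ⟨h⟩ := nonempty_term_equiv D i hi
  exact ⟨θ.trans h.toAddEquiv⟩

theorem nonempty_HdR_linearEquiv
    (h : KLinDR.TermwiseLinear (Coh.toGlobal (CohB1.ProjSpace.toSpec n A)) D.K D.term D.iso) (i : ℕ) (hi : i ≤ n) :
    Nonempty (KLinDR.HdR (Coh.toGlobal (CohB1.ProjSpace.toSpec n A)) D h (2 * (i : ℤ)) ≃ₗ[A] A) := by
  obtain ⟨θ, hθ⟩ := exists_diag_equiv D.KZ (n + 1) (isZero_lo D) (isZero_hi D) D.term (kzIso D)
    (subsingleton_term D) i (by omega)
  obtain ⟨g⟩ := nonempty_term_equiv D i hi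
  let c := Coh.toGlobal (CohB1.ProjSpace.toSpec n A)
  let f : KLinDR.HdR c D h (2 * (i : ℤ)) ≃ₗ[A] Coh.HH (CohB1.ProjSpace n A) (D.term i) i :=
    { KLinDR.HTρ.toHT.trans θ with
      map_smul' := fun a x => hθ (KLinDR.scalar h a) (Coh.smulAb (D.term i) (c a)) (by
        show (KLinDR.scalar h a : D.KZ ⟶ _).f (i : ℤ) ≫ _ = _
        rw [KLinDR.scalar_f h a i]
        simp [kzIso, KLinDR.scalarEnd, c]) (KLinDR.HTρ.toHT x) }
  exact ⟨f.trans g⟩

end Groth.Agent.Hyper5
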