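import Groth.Prelude.Def_E1Deg2
import Mathlib.Algebra.Homology.DerivedCategory.ShortExact
import Mathlib.Algebra.Homology.HomologicalComplexAbelian
import Mathlib.CategoryTheory.Triangulated.TriangleShift

/-!
# Dévissage of hypercohomology along the stupid filtration
-/

set_option autoImplicit false
set_option linter.style.haveILetI false
set_option backward.isDefEq.respectTransparency false
set_option maxHeartbeats 1000000

universe w' w v u

open CategoryTheory CategoryTheory.Limits CategoryTheory.Pretriangulated DerivedCategory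

namespace Groth.Agent.Hyper5

variable {A : Type u} [Category.{v} A] [Abelian A]

/-- `σ_{≥ i+1} K → σ_{≥ i} K → K^i`. -/
noncomputable abbrev seq (K : CochainComplex A ℤ) (i : ℤ) : ShortComplex (CochainComplex A ℤ) :=
  ShortComplex.mk (E1Deg.sigmaGEιSucc K i) (E1Deg.sigmaGEπ K i) (by
    refine HomologicalComplex.hom_ext _ _ fun m => ?_
    by_cases hm : m = i
    · refine (K.isZero_stupidTrunc_X _ m fun n hn => ?_).eq_of_src _ _
      simp only [ComplexShape.embeddingUpIntGE_f] at hn
      omega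
    · exact (HomologicalComplex.isZero_single_obj_X (ComplexShape.up ℤ) i (K.X i) m hm).eq_of_tgt _ _)

theorem seq_shortExact (K : CochainComplex A ℤ) (i : ℤ) : (seq K i).ShortExact := by
  refine HomologicalComplex.shortExact_of_degreewise_shortExact _ fun m => ?_
  by_cases hm : m = i
  · subst hm
    have h1 : IsZero ((E1Deg.sigmaGE K (m + 1)).X m) := K.isZero_stupidTrunc_X _ m fun n hn => by
      simp only [ComplexShape.embeddingUpIntGE_f] at hn
      omega
    haveI : IsIso ((E1Deg.sigmaGEπ K m).f m) := by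
      rw [E1Deg.sigmaGEπ_f]
      infer_instance
    show (ShortComplex.mk ((E1Deg.sigmaGEιSucc K m).f m) ((E1Deg.sigmaGEπ K m).f m) (h1.eq_of_src _ _)).ShortExact
    exact ShortComplex.Splitting.shortExact
      { r := 0, s := inv ((E1Deg.sigmaGEπ K m).f m), f_r := h1.eq_of_src _ _, s_g := IsIso.inv_hom_id _,
        id := by
          show (0 : _ ⟶ _) ≫ _ + (E1Deg.sigmaGEπ K m).f m ≫ inv ((E1Deg.sigmaGEπ K m).f m) = 𝟙 _
          simp }
  · have h3 : IsZero (((HomologicalComplex.single A (ComplexShape.up ℤ) i).obj (K.X i)).X m) :=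
      HomologicalComplex.isZero_single_obj_X (ComplexShape.up ℤ) i (K.X i) m hm
    haveI : IsIso ((E1Deg.sigmaGEιSucc K i).f m) := by
      rcases lt_or_gt_of_ne hm with h | h
      · exact ⟨0, (K.isZero_stupidTrunc_X _ m fun n hn => by
            simp only [ComplexShape.embeddingUpIntGE_f] at hn; omega).eq_of_src _ _,
          (K.isZero_stupidTrunc_X _ m fun n hn => by
            simp only [ComplexShape.embeddingUpIntGE_f] at hn; omega).eq_of_src _ _⟩
      · rw [E1Deg.sigmaGEιSucc_f_eq K i (n := (m - (i + 1)).toNat)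
          (by simp only [ComplexShape.embeddingUpIntGE_f]; omega)]
        infer_instance
    show (ShortComplex.mk ((E1Deg.sigmaGEιSucc K i).f m) ((E1Deg.sigmaGEπ K i).f m) (h3.eq_of_tgt _ _)).ShortExact
    exact ShortComplex.Splitting.shortExact
      { r := inv ((E1Deg.sigmaGEιSucc K i).f m), s := 0, f_r := IsIso.hom_inv_id _, s_g := h3.eq_of_src _ _,
        id := by
          show inv ((E1Deg.sigmaGEιSucc K i).f m) ≫ (E1Deg.sigmaGEιSucc K i).f m + _ ≫ (0 : _ ⟶ _) = 𝟙 _
          simp }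

variable [HasDerivedCategory.{w} A] (T : A)

section Exact

variable {S : ShortComplex (CochainComplex A ℤ)} (hS : S.ShortExact) (n : ℤ)

theorem units_comp {P Q R : DerivedCategory A} (a : ℤˣ) (g : P ⟶ Q) (φ : Q ⟶ R) :
    g ≫ (a • φ) = (a • g) ≫ φ := by
  simp [Preadditive.comp_zsmul, Preadditive.zsmul_comp, Units.smul_def]

include hS in
theorem exists_lift (x : E1Deg.HT T S.X₂ n) (hx : E1Deg.HTmap T S.g n x = 0) :
    ∃ y, E1Deg.HTmap T S.f n y = x := by
  obtain ⟨g, hg⟩ := Triangle.coyoneda_exact₂ _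
    (Triangle.shift_distinguished _ (triangleOfSES_distinguished hS) n) (x : _ ⟶ _)
    (show x ≫ (n.negOnePow • (Q.map S.g)⟦n⟧') = 0 by
      rw [units_comp]
      simp only [Units.smul_def, Preadditive.zsmul_comp]
      rw [show x ≫ (Q.map S.g)⟦n⟧' = 0 from hx, smul_zero])
  refine ⟨n.negOnePow • g, ?_⟩
  rw [E1Deg.HTmap_apply, ← units_comp]
  exact hg.symm

include hS in
theorem subsingleton_mid (h₁ : Subsingleton (E1Deg.HT T S.X₁ n)) (h₃ : Subsingleton (E1Deg.HT T S.X₃ n)) :
    Subsingleton (E1Deg.HT T S.X₂ n) := by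
  refine subsingleton_of_forall_eq 0 fun x => ?_
  obtain ⟨y, rfl⟩ := exists_lift T hS n x (Subsingleton.elim _ _)
  rw [Subsingleton.elim y 0, map_zero]

include hS in
theorem surjective_g (h₁ : Subsingleton (E1Deg.HT T S.X₁ (n + 1))) : Function.Surjective (E1Deg.HTmap T S.g n) := by
  intro x
  haveI : Subsingleton ((singleFunctor A 0).obj T ⟶ (Q.obj S.X₁)⟦n⟧⟦(1 : ℤ)⟧) :=
    (E1Deg.homCongrRight ((shiftFunctorAdd' (DerivedCategory A) n 1 (n + 1) rfl).app (Q.obj S.X₁))).symm.toEquiv.subsingleton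
  obtain ⟨g, hg⟩ := Triangle.coyoneda_exact₃ _
    (Triangle.shift_distinguished _ (triangleOfSES_distinguished hS) n) (x : _ ⟶ _)
    (Subsingleton.elim (α := (singleFunctor A 0).obj T ⟶ (Q.obj S.X₁)⟦n⟧⟦(1 : ℤ)⟧) _ _)
  refine ⟨n.negOnePow • g, ?_⟩
  rw [E1Deg.HTmap_apply, ← units_comp]
  exact hg.symm

include hS in
theorem injective_f (h₃ : Subsingleton (E1Deg.HT T S.X₃ (n - 1))) : Function.Injective (E1Deg.HTmap T S.f n) := by
  refine (injective_iff_map_eq_zero _).2 fun x hx => ?_
  haveI : Subsingleton ((singleFunctor A 0).obj T ⟶ (Q.obj S.X₃)⟦(-1 : ℤ)⟧⟦n⟧) :=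
    (E1Deg.homCongrRight ((shiftFunctorAdd' (DerivedCategory A) (-1) n (n - 1) (by omega)).app (Q.obj S.X₃))).symm.toEquiv.subsingleton
  obtain ⟨g, hg⟩ := Triangle.coyoneda_exact₂ _
    (Triangle.shift_distinguished _ (inv_rot_of_distTriang _ (triangleOfSES_distinguished hS)) n) (x : _ ⟶ _)
    (show x ≫ (n.negOnePow • (Q.map S.f)⟦n⟧') = 0 by
      rw [units_comp]
      simp only [Units.smul_def, Preadditive.zsmul_comp]
      rw [show x ≫ (Q.map S.f)⟦n⟧' = 0 from hx, smul_zero])
  have : g = 0 := Subsingleton.elim (α := (singleFunctor A 0).obj T ⟶ (Q.obj S.X₃)⟦(-1 : ℤ)⟧⟦n⟧) g 0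
  rw [hg, this, zero_comp]

include hS in
theorem bijective_f (h₃ : Subsingleton (E1Deg.HT T S.X₃ n)) (h₃' : Subsingleton (E1Deg.HT T S.X₃ (n - 1))) :
    Function.Bijective (E1Deg.HTmap T S.f n) :=
  ⟨injective_f T hS n h₃', fun x => exists_lift T hS n x (Subsingleton.elim _ _)⟩

include hS in
theorem bijective_g (h₁ : Subsingleton (E1Deg.HT T S.X₁ n)) (h₁' : Subsingleton (E1Deg.HT T S.X₁ (n + 1))) :
    Function.Bijective (E1Deg.HTmap T S.g n) := by
  refine ⟨(injective_iff_map_eq_zero _).2 fun x hx => ?_, surjective_g T hS n h₁'⟩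
  obtain ⟨y, rfl⟩ := exists_lift T hS n x hx
  rw [Subsingleton.elim y 0, map_zero]

end Exact

theorem subsingleton_of_isZero {K : CochainComplex A ℤ} (hK : IsZero K) (n : ℤ) :
    Subsingleton (E1Deg.HT T K n) :=
  ⟨fun _ _ => ((shiftFunctor _ n).map_isZero (Q.map_isZero hK)).eq_of_tgt _ _⟩

theorem isZero_of_X {K : CochainComplex A ℤ} (h : ∀ m, IsZero (K.X m)) : IsZero K :=
  (IsZero.iff_id_eq_zero _).2 (HomologicalComplex.hom_ext _ _ fun m => (h m).eq_of_src _ _)

/-- Negative degree hypercohomology of a single object vanishes. -/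
theorem subsingleton_single_of_lt (X : A) (p a : ℤ) (h : a < p) :
    Subsingleton (E1Deg.HT T ((HomologicalComplex.single A (ComplexShape.up ℤ) p).obj X) a) := by
  have e : (shiftFunctor (DerivedCategory A) a).obj (Q.obj ((HomologicalComplex.single A (ComplexShape.up ℤ) p).obj X)) ≅
      (singleFunctor A (p - a)).obj X :=
    (shiftFunctor (DerivedCategory A) a).mapIso (((singleFunctorIsoCompQ A p).app X).symm) ≪≫
      ((singleFunctors A).shiftIso a (p - a) p (by omega)).app X
  haveI : Subsingleton ((singleFunctor A 0).obj T ⟶ (singleFunctor A (p - a)).obj X) :=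
    ⟨fun f g => (TStructure.t.zero f 0 (p - a) (by omega)).trans (TStructure.t.zero g 0 (p - a) (by omega)).symm⟩
  exact (E1Deg.homCongrRight e).toEquiv.subsingleton

variable {K : CochainComplex A ℤ}

/-- Vanishing of hypercohomology. -/
theorem subsingleton_sigma (N : ℤ) (hN : ∀ m, N ≤ m → IsZero (K.X m)) (n : ℤ) :
    ∀ i : ℤ, (∀ p, i ≤ p → p < N → Subsingleton (E1Deg.HT T ((HomologicalComplex.single A _ p).obj (K.X p)) n)) →
      Subsingleton (E1Deg.HT T (E1Deg.sigmaGE K i) n) := by
  suffices ∀ (r : ℕ) (i : ℤ), N - i ≤ r →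
      (∀ p, i ≤ p → p < N → Subsingleton (E1Deg.HT T ((HomologicalComplex.single A _ p).obj (K.X p)) n)) →
      Subsingleton (E1Deg.HT T (E1Deg.sigmaGE K i) n) from fun i => this (N - i).toNat i (by omega)
  have hz : ∀ i, N ≤ i → IsZero (E1Deg.sigmaGE K i) := fun i hi => isZero_of_X fun m => by
    by_cases hm : i ≤ m
    · exact (hN m (by omega)).of_iso (K.stupidTruncXIso _ (i := (m - i).toNat)
        (by simp only [ComplexShape.embeddingUpIntGE_f]; omega))
    · exact K.isZero_stupidTrunc_X _ m fun k hk => by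
        simp only [ComplexShape.embeddingUpIntGE_f] at hk; omega
  intro r
  induction r with
  | zero => intro i hi _; exact subsingleton_of_isZero T (hz i (by omega)) n
  | succ r ih =>
    intro i hi h
    by_cases hi' : N ≤ i
    · exact subsingleton_of_isZero T (hz i hi') n
    exact subsingleton_mid T (seq_shortExact K i) n (ih (i + 1) (by omega) fun p hp => h p (by omega))
      (h i le_rfl (by omega))

theorem bijective_ι (a : ℤ) (ha : ∀ m, m < a → IsZero (K.X m)) (n : ℤ) : ∀ (r : ℕ),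
    (∀ p, a ≤ p → p < a + r → Subsingleton (E1Deg.HT T ((HomologicalComplex.single A _ p).obj (K.X p)) n) ∧
      Subsingleton (E1Deg.HT T ((HomologicalComplex.single A _ p).obj (K.X p)) (n - 1))) →
    Function.Bijective (E1Deg.HTmap T (E1Deg.sigmaGEι K (a + r)) n)
  | 0, _ => by
    rw [show a + ((0 : ℕ) : ℤ) = a by simp]
    haveI := E1Deg.isIso_sigmaGEι K a ha
    exact (E1Deg.homCongrRight (asIso ((shiftFunctor (DerivedCategory A) n).map (Q.map (E1Deg.sigmaGEι K a))))).bijective
  | r + 1, h => by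
    rw [show a + ((r + 1 : ℕ) : ℤ) = (a + r) + 1 by push_cast; omega, ← E1Deg.sigmaGEιSucc_comp_ι K (a + r)]
    have h1 := bijective_f T (seq_shortExact K (a + r)) n (h (a + r) (by omega) (by omega)).1
      (h (a + r) (by omega) (by omega)).2
    have h2 := bijective_ι a ha n r fun p hp hp' => h p hp (by omega)
    have : ⇑(E1Deg.HTmap T (E1Deg.sigmaGEιSucc K (a + r) ≫ E1Deg.sigmaGEι K (a + r)) n) =
        E1Deg.HTmap T (E1Deg.sigmaGEι K (a + r)) n ∘ E1Deg.HTmap T (E1Deg.sigmaGEιSucc K (a + r)) n :=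
      funext fun x => E1Deg.HTmap_comp T _ _ n x
    rw [this]
    exact h2.comp h1

/-- Vanishing of hypercohomology of a bounded complex. -/
theorem subsingleton_HT (a N : ℤ) (ha : ∀ m, m < a → IsZero (K.X m)) (hN : ∀ m, N ≤ m → IsZero (K.X m)) (n : ℤ)
    (h : ∀ p, a ≤ p → p < N → Subsingleton (E1Deg.HT T ((HomologicalComplex.single A _ p).obj (K.X p)) n)) :
    Subsingleton (E1Deg.HT T K n) := by
  haveI := subsingleton_sigma T N hN n a h
  have hb : Function.Bijective (E1Deg.HTmap T (E1Deg.sigmaGEι K (a + ((0 : ℕ) : ℤ))) n) :=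
    bijective_ι T a ha n 0 fun p hp hp' => absurd hp' (by omega)
  rw [show a + ((0 : ℕ) : ℤ) = a by simp] at hb
  exact hb.surjective.subsingleton

/-- Only one graded piece contributes: the two comparison maps. -/
theorem bijective_pair (a N i : ℤ) (hai : a ≤ i) (ha : ∀ m, m < a → IsZero (K.X m))
    (hN : ∀ m, N ≤ m → IsZero (K.X m)) (n : ℤ)
    (hlo : ∀ p, a ≤ p → p < i → Subsingleton (E1Deg.HT T ((HomologicalComplex.single A _ p).obj (K.X p)) n) ∧
      Subsingleton (E1Deg.HT T ((HomologicalComplex.single A _ p).obj (K.X p)) (n - 1)))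
    (hhi : ∀ p, i < p → p < N → Subsingleton (E1Deg.HT T ((HomologicalComplex.single A _ p).obj (K.X p)) n) ∧
      Subsingleton (E1Deg.HT T ((HomologicalComplex.single A _ p).obj (K.X p)) (n + 1))) :
    Function.Bijective (E1Deg.HTmap T (E1Deg.sigmaGEι K i) n) ∧
      Function.Bijective (E1Deg.HTmap T (E1Deg.sigmaGEπ K i) n) := by
  constructor
  · obtain ⟨r, rfl⟩ : ∃ r : ℕ, i = a + r := ⟨(i - a).toNat, by omega⟩
    exact bijective_ι T a ha n r hlo
  · exact bijective_g T (seq_shortExact K i) n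
      (subsingleton_sigma T N hN n (i + 1) fun p hp hp' => (hhi p (by omega) hp').1)
      (subsingleton_sigma T N hN (n + 1) (i + 1) fun p hp hp' => (hhi p (by omega) hp').2)

section Single

variable [HasExt.{w'} A]

theorem subsingleton_single (X : A) (p a : ℤ) (h : ∀ m : ℕ, p + m = a → Subsingleton (Abelian.Ext.{w'} T X m)) :
    Subsingleton (E1Deg.HT T ((HomologicalComplex.single A (ComplexShape.up ℤ) p).obj X) a) := by
  by_cases hlt : a < p
  · exact subsingleton_single_of_lt T X p a hlt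
  haveI := h (a - p).toNat (by omega)
  exact (E1Deg.HTsingleEquiv.{w'} T X p a (a - p).toNat (by omega)).toEquiv.subsingleton

theorem targetIso_natural {X Y : A} (φ : X ⟶ Y) (i a : ℤ) (m : ℕ) (h : i + m = a) :
    (Q.map ((HomologicalComplex.single A (ComplexShape.up ℤ) i).map φ))⟦a⟧' ≫ (E1Deg.targetIso Y i a m h).hom =
      (E1Deg.targetIso X i a m h).hom ≫ ((singleFunctor A 0).map φ)⟦(m : ℤ)⟧' := by
  simp only [E1Deg.targetIso, Iso.trans_hom, Functor.mapIso_hom, Iso.app_hom, Iso.symm_hom, Iso.app_inv,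
    Category.assoc]
  rw [← Functor.map_comp_assoc]
  have e1 : Q.map ((HomologicalComplex.single A (ComplexShape.up ℤ) i).map φ) ≫ (singleFunctorIsoCompQ A i).inv.app Y ≫
      ((singleFunctors A).shiftIso (-i) i 0 (by omega)).inv.app Y =
      ((singleFunctorIsoCompQ A i).inv.app X ≫ ((singleFunctors A).shiftIso (-i) i 0 (by omega)).inv.app X) ≫
        ((singleFunctor A 0).map φ)⟦-i⟧' := by
    rw [← Category.assoc]
    erw [(singleFunctorIsoCompQ A i).inv.naturality φ]
    rw [Category.assoc, Category.assoc]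
    congr 1
    exact ((singleFunctors A).shiftIso (-i) i 0 (by omega)).inv.naturality φ
  rw [e1, Functor.map_comp, Category.assoc]
  congr 1
  exact ((shiftFunctorAdd' (DerivedCategory A) (-i) a (m : ℤ) (by omega)).inv.naturality ((singleFunctor A 0).map φ))

theorem HTsingleEquiv_natural {X Y : A} (φ : X ⟶ Y) (i a : ℤ) (m : ℕ) (h : i + m = a)
    (x : E1Deg.HT T ((HomologicalComplex.single A (ComplexShape.up ℤ) i).obj X) a) :
    E1Deg.HTsingleEquiv.{w'} T Y i a m h (E1Deg.HTmap T ((HomologicalComplex.single A _ i).map φ) a x) =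
      (E1Deg.HTsingleEquiv.{w'} T X i a m h x).comp (Abelian.Ext.mk₀ φ) (add_zero m) := by
  apply Abelian.Ext.homAddEquiv.injective
  rw [Abelian.Ext.homAddEquiv_apply, Abelian.Ext.homAddEquiv_apply, Abelian.Ext.comp_hom, Abelian.Ext.mk₀_hom,
    ShiftedHom.comp_mk₀]
  have e : ∀ {Z : A} (z : E1Deg.HT T ((HomologicalComplex.single A (ComplexShape.up ℤ) i).obj Z) a),
      (E1Deg.HTsingleEquiv.{w'} T Z i a m h z).hom = z ≫ (E1Deg.targetIso Z i a m h).hom := fun z =>
    Abelian.Ext.homAddEquiv.apply_symm_apply _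
  rw [e, e, E1Deg.HTmap_apply, Category.assoc, Category.assoc, targetIso_natural]

end Single

end Groth.Agent.Hyper5
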